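import Cfsg.Agent.Helper3.Rank.Basic

/-!
Order certificates for the rank computation `r00` (machine generated).
-/

set_option autoImplicit false

namespace Cfsg.Agent.Helper3

open Cfsg

def r00K : List (ℕ × ℕ × List ℕ × List ℕ × List (List ℕ)) :=
  [(0, 5, [], [340831], [[], [0, 0, 2, 1, 4, 4, 2, 1, 1, 4, 1, 3, 1, 4, 2, 0, 0, 4, 4, 2, 0, 4, 0, 3, 0, 3, 1, 2, 0, 3, 0, 4, 1, 1, 4, 0, 0, 4, 4], [2, 0, 4, 4, 0, 3, 1, 3, 2, 3, 2, 0, 4, 1, 3, 0, 0, 4, 1, 2, 3, 1, 2, 0, 4, 0, 4, 4, 1, 4, 4, 2, 0, 0, 0, 3, 3, 1, 1, 3, 0, 0, 3, 1, 4, 1, 2, 0, 4], [2, 0, 4, 4, 0, 3, 1, 3, 2, 3, 2, 0, 0, 3, 3, 1, 3, 3, 0, 2, 1, 1, 1, 3, 3, 2, 0, 3, 3, 1, 3, 1, 2, 0, 4], [2, 0, 4, 4, 0, 3, 1, 3, 2, 0, 4, 1, 4, 0,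 0, 0, 3, 2, 1, 4, 0, 3, 3, 1, 1, 3, 0, 0, 3, 1, 4, 1, 2, 0, 4], [4, 1, 4, 1, 4, 1, 3, 1, 4, 2, 1, 3, 2, 1, 4, 1, 1, 3, 1, 4, 1, 3, 3, 1, 1, 3, 0, 0, 3, 1, 4, 1, 2, 0, 4], [4, 1, 4, 2, 0, 0, 0, 3, 1, 3, 0, 4, 1, 4, 1, 1, 3, 3, 1, 3, 0, 4, 1, 4, 1, 1, 2, 0, 3, 0, 4, 1, 1, 4, 0, 0, 4, 4], [4, 4, 0, 0, 3, 0, 4, 0, 0, 0, 0, 4, 0, 2, 1, 3, 2, 0, 0, 3, 2, 0, 3, 3, 1, 1, 3, 0, 0, 3, 1, 4, 1, 2, 0, 4], [2, 1, 1, 4, 1, 4, 1, 3, 0, 0, 3, 1, 1, 4, 0, 3, 1, 4, 2, 0, 3, 0, 4, 0, 0, 3, 0, 4, 2, 0, 3, 2, 0, 3, 1, 1, 3, 0, 0, 3, 1, 4, 1, 2, 0, 4], [4, 1, 4, 1, 4, 1, 2, 0, 4, 0, 4, 0, 0, 3, 0, 0, 4, 2, 0, 3, 0, 4, 0, 0, 3, 0, 4, 2, 0, 3, 0, 3, 0, 4, 1, 1, 4, 0, 0, 4, 4], [4, 1, 4, 2, 0, 0, 0, 3, 1, 3, 0,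 3, 2, 0, 0, 0, 0, 3, 0, 4, 1, 1, 4, 2, 0, 4, 1, 4, 2, 1, 3, 0, 4, 0, 3, 0, 4, 1, 3, 1, 1, 3, 0, 0, 3, 1, 4, 1, 2, 0, 4], [4, 2, 0, 4, 1, 3, 3, 1, 2, 3, 2, 0, 0, 3, 3, 1, 3, 3, 0, 2]]),
   (1, 689317, [], [], []),
   (1, 3294342, [], [], []),
   (0, 7, [689317, 3294342], [], [[], [3, 3, 1, 4, 1, 1, 1, 3, 0, 3, 3, 0], [0, 0, 0, 4, 0, 2, 0, 0, 0, 0, 0, 0, 0, 0, 3, 3, 1, 2, 1, 1, 1, 3, 0, 4, 0, 0, 3, 0, 4, 2, 0, 3, 0, 3, 0, 4, 1, 1, 4, 0, 0, 4, 4]]),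
   (0, 10, [689317, 3294342], [], [[], [0, 0, 0, 4, 0, 2, 0, 0, 0, 0, 0, 2, 1, 4, 4, 0, 4, 4, 1, 1, 4, 2, 4, 4, 1, 4, 4, 2, 1, 3, 3, 0, 0, 3, 1, 4, 1, 3, 3, 1, 1, 3, 0, 0, 3, 1, 4, 1, 2, 0, 4]]),
   (0, 8, [6292775, 340831], [], [[]]),
   (0, 3, [5279, 198058], [], [[]]),
   (0, 4, [5279, 10558], [], [[]]),
   (0, 6, [262637, 18147], [], [[]]),
   (0, 9, [18147, 340831], [], [[]]),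
   (0, 11, [10558, 36294], [], [[]]),
   (0, 12, [5279], [], [[]]),
   (0, 13, [10558], [], [[]]),
   (0, 14, [18147], [], [[]]),
   (0, 15, [36294], [], [[]]),
   (0, 16, [69395], [], [[]]),
   (0, 17, [133817], [], [[]]),
   (0, 18, [340831], [], [[]]),
   (0, 19, [689317], [], [[]]),
   (0, 20, [1050548], [], [[]]),
   (0, 21, [3294342], [], [[]]),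
   (0, 22, [4196943], [], [[]]),
   (0, 23, [], [], [[]])]

theorem r00K_ok : gProgOK [340831] 7 r00K = true := by decide +kernel

def r00W : List (List ℕ) :=
  [[], [0, 0, 2, 1, 4, 4, 2, 1, 1, 4, 1, 3, 1, 4, 2, 0, 0, 4, 4, 2, 0, 4, 0, 3, 0, 3, 1, 2, 0, 3, 0, 4, 1, 1, 4, 0, 0, 4, 4], [2, 0, 4, 4, 0, 3, 1, 3, 2, 3, 2, 0, 4, 1, 3, 0, 0, 4, 1, 2, 3, 1, 2, 0, 4, 0, 4, 4, 1, 4, 4, 2, 0, 0, 0, 3, 3, 1, 1, 3, 0, 0, 3, 1, 4, 1, 2, 0, 4], [2, 0, 4, 4, 0, 3, 1, 3, 2, 3, 2, 0, 0, 3, 3, 1, 3, 3, 0, 2, 1, 1, 1, 3, 3, 2, 0, 3, 3, 1, 3, 1, 2, 0, 4], [2, 0, 4, 4, 0, 3, 1, 3, 2, 0, 4, 1, 4, 0, 0, 0, 3, 2, 1, 4, 0, 3, 3, 1, 1, 3, 0, 0, 3, 1, 4, 1, 2, 0, 4], [4, 1, 4, 1, 4, 1, 3, 1, 4, 2, 1, 3, 2, 1, 4, 1,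 1, 3, 1, 4, 1, 3, 3, 1, 1, 3, 0, 0, 3, 1, 4, 1, 2, 0, 4], [4, 1, 4, 2, 0, 0, 0, 3, 1, 3, 0, 4, 1, 4, 1, 1, 3, 3, 1, 3, 0, 4, 1, 4, 1, 1, 2, 0, 3, 0, 4, 1, 1, 4, 0, 0, 4, 4], [4, 4, 0, 0, 3, 0, 4, 0, 0, 0, 0, 4, 0, 2, 1, 3, 2, 0, 0, 3, 2, 0, 3, 3, 1, 1, 3, 0, 0, 3, 1, 4, 1, 2, 0, 4], [2, 1, 1, 4, 1, 4, 1, 3, 0, 0, 3, 1, 1, 4, 0, 3, 1, 4, 2, 0, 3, 0, 4, 0, 0, 3, 0, 4, 2, 0, 3, 2, 0, 3, 1, 1, 3, 0, 0, 3, 1, 4, 1, 2, 0, 4], [4, 1, 4, 1, 4, 1, 2, 0, 4, 0, 4, 0, 0, 3, 0, 0, 4, 2, 0, 3, 0, 4, 0, 0, 3, 0, 4, 2, 0, 3, 0, 3, 0, 4, 1, 1, 4, 0, 0, 4, 4], [4, 1, 4, 2, 0, 0, 0, 3, 1, 3, 0, 3, 2, 0, 0, 0, 0, 3, 0, 4, 1, 1, 4, 2, 0, 4, 1, 4, 2, 1, 3, 0, 4, 0, 3, 0, 4, 1, 3, 1, 1, 3, 0, 0, 3, 1, 4, 1, 2,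 0, 4], [4, 2, 0, 4, 1, 3, 3, 1, 2, 3, 2, 0, 0, 3, 3, 1, 3, 3, 0, 2]]

theorem r00L_ok : gLevelOK [340831] 7 5 [] [340831] r00W = true := by decide +kernel

end Cfsg.Agent.Helper3
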