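import Cfsg.Agent.Helper3.Rank.Basic

/-!
Order certificates for the rank computation `r05` (machine generated).
-/

set_option autoImplicit false

namespace Cfsg.Agent.Helper3

open Cfsg

def r05M : List (ℕ × ℕ × List ℕ × List ℕ × List (List ℕ)) :=
  [(0, 1, [], [], [[], [4, 4, 0, 3, 3, 1, 2, 1, 1, 2, 1, 3, 1, 3, 1, 4, 4, 1, 2, 4, 1, 2, 0, 3, 0, 4, 1, 1, 4, 0, 0, 0, 0, 4, 0, 3, 3, 2, 0, 0, 3, 1, 1, 3, 0, 0, 3, 3, 1, 1, 3, 0, 0, 3, 1, 4, 1, 2, 0, 4], [2, 0, 3, 1, 4, 0, 2, 4, 1, 4, 2, 0, 0, 0, 3, 1, 3, 0, 3, 2, 0, 0, 3, 3, 1, 3, 3, 0, 2, 0, 4, 1, 4, 2, 1, 3, 0, 4, 0, 3, 0, 4, 1, 3, 1, 1, 3, 0, 0, 3, 1, 4, 1, 2, 0, 4], [3, 3, 2, 0, 0, 0, 4, 2, 3,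 0, 0, 0, 3, 3, 1, 4, 0, 2, 0, 0, 4, 0, 4, 1, 3, 1, 3, 3, 2, 4, 4, 1, 4, 4, 2, 1, 3, 3, 0, 0, 3, 1, 4, 1], [4, 0, 2, 1, 4, 4, 2, 1, 2, 1, 1, 4, 1, 4, 1, 3, 0, 2, 1, 3, 3, 1, 4, 0, 3, 0, 0, 0, 0, 0, 3, 0, 4, 0, 0, 3, 0, 4, 2, 0, 3, 2, 0, 3, 1, 1, 3, 0, 0, 3, 1, 4, 1, 2, 0, 4], [2, 1, 3, 2, 3, 0, 3, 0, 3, 0, 3, 0, 0, 0, 3, 3, 1, 4, 0, 0, 3, 0, 4, 1, 1, 4, 0, 4, 2, 0, 4, 1, 4, 0, 4, 2, 1, 4, 4, 1, 4, 0, 3, 1, 1, 3, 1, 2, 0, 3, 0, 4, 1, 1, 4, 0, 0, 4, 4], [3, 0, 2, 0, 2, 1, 1, 4, 1, 4, 2, 3, 3, 0, 2, 1, 3, 2, 1, 3, 2, 1, 3, 3, 2, 1, 3, 3, 0, 0, 0, 3, 1, 1, 2, 0, 0, 4, 0, 3, 3, 2, 0, 0, 3, 1, 1, 3, 0, 0, 3, 3, 1, 1, 3, 0, 0, 3, 1, 4, 1, 2, 0, 4], [4,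 0, 2, 0, 0, 3, 1, 3, 3, 1, 3, 0, 0, 2, 0, 4, 4, 0, 3, 1, 3, 2, 3, 2, 0, 0, 0, 0, 3, 0, 4, 1, 1, 4, 2, 4, 1, 4, 1, 1, 3, 3, 1, 3, 0, 4, 1, 4, 1, 4], [2, 0, 0, 3, 2, 3, 1, 3, 1, 4, 4, 1, 1, 2, 1, 4, 4, 0, 4, 4, 1, 1, 4, 2, 0, 4, 1, 4, 0, 0, 0, 3, 2, 1, 4, 0], [2, 0, 0, 4, 4, 0, 2, 4, 4, 2, 0, 0, 0, 3, 0, 0, 4, 1, 3, 2, 0, 0, 0, 0, 4, 1, 4, 1, 3, 1, 4, 2, 0, 0, 4, 4, 2, 0, 4, 0, 3, 0, 3, 1, 2, 0, 3, 0, 4, 1, 1, 4, 0, 0, 4, 4], [0, 2, 0, 2, 1, 4, 0, 2, 0, 0, 0, 2, 1, 4, 4, 2, 1, 1, 1, 3, 1, 4, 2, 1, 3, 2, 1, 4, 1, 1, 3, 1, 4, 1, 3, 3, 1, 1, 3, 0, 0, 3, 1, 4, 1, 2, 0, 4], [4, 4, 0, 2, 0, 3, 2, 1, 1, 1, 2, 4, 1, 4, 1, 4, 1, 1, 1, 1, 1, 4, 1, 3, 0, 4,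 4, 0, 3, 1, 3, 1, 3, 3, 0, 3, 1, 1, 1, 3, 2, 0, 3, 1, 2, 0, 3, 0, 4, 1, 1, 4, 0, 0, 4, 4], [2, 1, 4, 2, 1, 1, 4, 4, 0, 4, 4, 2, 1, 1, 4, 1, 4, 1, 4, 0, 4, 4, 1, 1, 4, 2, 4, 4, 1, 4, 4, 2, 1, 3, 3, 0, 0, 3, 1, 4, 1, 3, 3, 1, 1, 3, 0, 0, 3, 1, 4, 1, 2, 0, 4], [2, 0, 0, 0, 0, 2, 3, 2, 0, 0, 3, 3, 2, 4, 4, 2, 0, 0, 0, 3, 2, 3, 2, 0, 0, 3, 3, 1, 3, 3, 0, 2, 0, 4, 1, 4, 2, 1, 3, 0, 4, 0, 3, 0, 4, 1, 3, 1, 1, 3, 0, 0, 3, 1, 4, 1, 2, 0, 4], [3, 3, 0, 2, 0, 2, 1, 1, 3, 1, 4, 1, 1, 4, 0, 3, 1, 4, 2, 0, 0, 4, 0, 3, 3, 2, 0, 0, 3, 1, 1, 3, 0, 0, 3, 1, 2, 0, 3, 0, 4, 1, 1, 4, 0, 0, 4, 4], [2, 1, 4, 0, 0, 0, 3, 0, 4, 0, 2, 4, 1, 2, 0, 3, 0, 4, 1, 1, 4, 0, 0,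 0, 4, 1, 4, 0, 0, 0, 3, 2, 1, 4, 0, 3, 3, 1, 1, 3, 0, 0, 3, 1, 4, 1, 2, 0, 4], [3, 0, 2, 1, 4, 4, 2, 1, 2, 1, 1, 4, 1, 4, 1, 3, 0, 2, 0, 0, 4, 0, 2, 1, 3, 2, 0, 0, 3, 2, 0, 3, 0, 3, 1, 4, 1, 3, 1, 4, 0, 3, 2, 0, 3, 1], [4, 2, 0, 0, 0, 4, 1, 1, 2, 4, 2, 1, 1, 1, 3, 3, 0, 4, 0, 4, 0, 0, 3, 0, 0, 4, 2, 4, 4, 1, 4, 4, 2, 1, 3, 3, 0, 0, 3, 1, 4, 1, 3, 3, 1, 1, 3, 0, 0, 3, 1, 4, 1, 2, 0, 4], [2, 0, 4, 4, 1, 2, 4, 2, 1, 3, 0, 3, 2, 1, 3, 0, 4, 4, 1, 1, 1, 4, 1, 3, 0, 4, 2, 1, 1, 1, 3, 0, 3, 1], [2, 1, 1, 3, 0, 0, 0, 4, 2, 1, 3, 0, 4, 4, 1, 1, 1, 3, 1, 4, 1, 1, 1, 3, 0, 3, 3, 1, 1, 3, 3, 2, 0, 3, 3, 1, 3, 3, 0, 4, 1, 1, 4, 0, 0, 4, 4], [2, 0, 0, 2, 3,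 2, 1, 1, 1, 1, 1, 4, 1, 4, 1, 3, 0, 2, 3, 3, 2, 1, 3, 3, 0, 0, 0, 3, 1, 1, 2, 0, 4, 1, 4, 0, 0, 0, 3, 2, 1, 4, 0, 3, 1, 2, 0, 3, 0, 4, 1, 1, 4, 0, 0, 4, 4], [1, 2, 1, 2, 1, 4, 4, 0, 0, 0, 0, 0, 3, 0, 4, 0, 2, 0, 0, 4, 0, 2, 1, 3, 2, 0, 0, 3, 2, 0, 4, 1, 3, 1, 4, 2, 0, 0, 4, 4, 2, 0, 4, 0, 3, 0, 3, 3, 1, 1, 3, 0, 0, 3, 1, 4, 1, 2, 0, 4]]),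
   (0, 2, [], [], [[], [3, 0, 3, 0, 3, 0, 4, 1, 4, 2, 0, 0, 0, 3, 1, 3, 0, 4, 1, 4, 1, 3, 3, 2, 1, 1, 4, 2, 1, 3, 0, 3, 1, 4, 1, 3, 1, 4, 0, 3, 2, 0, 3, 1], [0, 3, 1, 3, 3, 1, 3, 0, 0, 4, 2, 0, 4, 1, 3, 3, 1, 2, 4, 1, 2, 0, 3, 0, 4, 1, 1, 4, 0, 0, 3, 1, 4, 2, 1, 3, 2, 1, 4, 1, 1, 3, 1, 4, 1], [3, 2, 1, 1, 4, 1, 1, 2, 3, 2, 0, 3, 3, 0, 4, 0, 0, 4, 2, 1, 3, 3, 1, 4, 0, 3, 0, 0, 0, 0, 3, 0, 3, 1, 4, 1, 3, 1, 4, 0, 3, 2, 0, 3, 1, 3, 3, 1, 1, 3, 0, 0, 3, 1, 4, 1, 2, 0, 4], [4, 2, 1, 3, 0, 3, 2, 4, 2, 1, 1, 1, 3, 3, 2, 3, 2, 0, 0, 3, 3, 1, 3, 3, 0, 2, 4, 4, 1, 4, 4, 2, 1, 3, 3, 0, 0, 3, 1, 4, 1, 3, 1, 2, 0, 3, 0, 4, 1, 1, 4, 0, 0, 4, 4], [2, 0, 0, 0,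 4, 0, 0, 0, 0, 3, 0, 4, 0, 2, 4, 1, 2, 0, 3, 0, 4, 1, 1, 4, 0, 0, 4, 1, 3, 1, 4, 2, 0, 0, 4, 4, 2, 0, 4, 0, 3, 0], [3, 1, 3, 1, 4, 4, 1, 1, 2, 1, 1, 4, 1, 4, 1, 3, 0, 2, 0, 3, 0, 4, 1, 1, 4, 0, 4, 2, 0, 4, 2, 4, 4, 1, 4, 4, 2, 1, 3, 3, 0, 0, 3, 1, 4, 1, 3, 3, 1, 1, 3, 0, 0, 3, 1, 4, 1, 2, 0, 4], [3, 2, 1, 1, 4, 4, 0, 3, 1, 3, 2, 3, 3, 1, 4, 1, 1, 1, 3, 0, 3, 3, 3, 0, 4, 2, 1, 1, 1, 3, 0, 3, 1, 3, 1, 2, 0, 3, 0, 4, 1, 1, 4, 0, 0, 4, 4], [2, 0, 4, 0, 4, 0, 0, 0, 0, 3, 0, 4, 0, 2, 0, 0, 0, 2, 1, 4, 4, 2, 1, 1, 1, 2, 1, 4, 0, 4, 2, 1, 4, 4, 1, 4, 0, 3, 1, 1, 3, 1, 2, 0, 3, 0, 4, 1, 1, 4, 0, 0, 4, 4], [4, 2, 1, 4, 0, 3, 2, 0, 0, 0, 3, 3, 1, 2, 1, 1,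 1, 4, 1, 4, 0, 0, 0, 3, 2, 1, 4, 0, 3, 1, 2, 0, 3, 0, 4, 1, 1, 4, 0, 0, 4, 4], [2, 1, 3, 0, 2, 3, 3, 0, 2, 1, 3, 2, 1, 3, 2, 1, 4, 1, 4, 0, 0, 0, 3, 2, 1, 4, 0, 0, 0, 4, 1, 4, 0, 0, 0, 3, 2, 1, 4, 0, 3, 1, 2, 0, 3, 0, 4, 1, 1, 4, 0, 0, 4, 4], [3, 2, 0, 0, 3, 3, 2, 1, 3, 0, 4, 4, 1, 1, 1, 2, 0, 0, 0, 0, 3, 0, 4, 1, 1, 4, 2, 3, 1, 3, 1, 3, 3, 0, 3, 1, 1, 1, 3, 2, 0, 3, 1, 2, 0, 3, 0, 4, 1, 1, 4, 0, 0, 4, 4], [1, 1, 4, 4, 0, 4, 4, 2, 0, 0, 0, 0, 3, 0, 4, 0, 2, 0, 0, 4, 0, 2, 1, 3, 2, 0, 0, 3, 2, 0, 3, 1, 4, 2, 1, 3, 2, 1, 4, 1, 1, 3, 1, 4, 1], [2, 0, 4, 1, 4, 1, 1, 2, 0, 0, 3, 3, 1, 2, 1, 1, 1, 2, 0, 0, 4, 0, 4, 1, 3, 1, 3, 3, 2, 4, 4, 1, 4, 4, 2,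 1, 3, 3, 0, 0, 3, 1, 4, 1], [0, 2, 1, 4, 4, 2, 0, 2, 1, 4, 4, 2, 1, 1, 3, 3, 2, 1, 3, 3, 0, 0, 0, 3, 1, 1, 1, 3, 3, 2, 0, 3, 0, 3, 0, 4, 1, 2, 1, 3, 1, 2, 0, 3, 0, 4, 1, 1, 4, 0, 0, 4, 4], [2, 0, 4, 1, 1, 2, 4, 1, 4, 1, 4, 1, 2, 0, 0, 4, 0, 4, 1, 3, 1, 3, 3, 2, 0, 4, 1, 4, 2, 1, 3, 0, 4, 0, 3, 0, 4, 1, 1, 2, 0, 3, 0, 4, 1, 1, 4, 0, 0, 4, 4], [2, 1, 1, 4, 1, 4, 0, 4, 4, 0, 3, 1, 3, 2, 3, 2, 0, 0, 3, 3, 1, 3, 3, 0, 2, 4, 1, 4, 1, 1, 3, 3, 1, 3, 0, 4, 1, 4, 1, 3, 1, 1, 3, 0, 0, 3, 1, 4, 1, 2, 0, 4], [2, 1, 4, 0, 0, 0, 0, 0, 3, 0, 4, 0, 0, 4, 0, 4, 0, 0, 3, 0, 0, 4, 1, 4, 0, 4, 2, 1, 4, 4, 1, 4, 0, 3, 1, 1], [2, 1, 4, 4, 0, 2, 4, 2, 1, 1, 1, 3, 3,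 2, 3, 2, 0, 0, 3, 3, 1, 3, 0, 4, 2, 1, 4, 4, 1, 4, 0, 3, 1, 1, 3, 1, 2, 0, 3, 0, 4, 1, 1, 4, 0, 0, 4, 4], [3, 2, 1, 3, 0, 0, 0, 3, 0, 4, 4, 4, 0, 4, 4, 1, 1, 4, 2, 1, 1, 1, 3, 3, 2, 0, 3, 3, 1, 3, 1, 2, 0, 4], [0, 3, 3, 1, 2, 1, 1, 4, 4, 0, 0, 3, 0, 4, 0, 0, 2, 1, 3, 3, 2, 0, 3, 0, 3, 0, 4, 1, 2, 1, 3, 1, 2, 0, 3, 0, 4, 1, 1, 4, 0, 0, 4, 4]]),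
   (0, 3, [], [], [[], [4, 1, 4, 1, 4, 1, 3, 3, 1, 4, 1, 1, 1, 3, 0, 3, 3, 0, 3, 0, 3, 1, 4, 1, 3, 1, 4, 0, 3, 2, 0, 3, 1, 3, 3, 1, 1, 3, 0, 0, 3, 1, 4, 1, 2, 0, 4], [4, 4, 0, 0, 3, 0, 4, 0, 0, 2, 0, 0, 4, 0, 4, 1, 3, 1, 3, 3, 2, 3, 1, 2, 0, 4, 0, 4, 4, 1, 4, 4, 2, 0, 0, 0, 3, 3, 1, 1, 3, 0, 0, 3, 1, 4, 1, 2, 0, 4], [3, 2, 0, 3, 3, 0, 4, 0, 0, 4, 2, 0, 0, 4, 0, 2, 1, 3, 2, 0, 0, 3, 2, 0, 2, 1, 4, 0, 4, 2, 1, 4, 4, 1, 4, 0, 3, 1, 1], [0, 0, 0, 4, 0, 2, 0, 0, 0, 0, 0, 3, 3, 2, 1, 3, 3, 0, 0, 0, 3, 1, 1, 2, 1, 3, 0, 4, 2, 1, 1, 1, 3, 0, 3, 1, 3, 1, 2, 0, 3, 0, 4, 1, 1, 4, 0, 0, 4, 4], [4, 2, 0, 4, 1, 3, 3, 1, 2, 3, 2, 0, 0, 0, 0, 3, 0, 4, 1, 1, 4,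 2, 4, 1, 3, 1, 4, 2, 0, 0, 4, 4, 2, 0, 4, 0, 3, 0, 3, 1, 2, 0, 3, 0, 4, 1, 1, 4, 0, 0, 4, 4], [2, 0, 0, 0, 0, 3, 0, 4, 0, 2, 1, 3, 3, 1, 4, 0, 3, 0, 0, 0, 3, 0, 4, 2, 1, 1, 1, 3, 0, 3, 1, 3, 1, 2, 0, 3, 0, 4, 1, 1, 4, 0, 0, 4, 4], [2, 1, 3, 1, 3, 1, 4, 4, 1, 2, 0, 3, 0, 4, 1, 1, 4, 0, 4, 2, 0, 4, 2, 0, 4, 1, 4, 0, 0, 0, 3, 2, 1, 4, 0, 3, 1, 2, 0, 3, 0, 4, 1, 1, 4, 0, 0, 4, 4], [4, 1, 4, 2, 0, 0, 0, 3, 1, 3, 0, 0, 3, 0, 4, 1, 1, 4, 0, 4, 2, 0, 4, 2, 3, 1, 2, 0, 4, 0, 4, 4, 1, 4, 4, 2, 0, 0, 0], [2, 0, 4, 4, 0, 3, 1, 3, 2, 3, 2, 0, 0, 3, 3, 1, 3, 3, 0, 2, 3, 1, 3, 1, 3, 3, 0, 3, 1, 1, 1, 3, 2, 0, 3, 1, 2, 0, 3, 0, 4, 1, 1, 4, 0, 0, 4, 4], [3, 0,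 0, 0, 3, 3, 1, 4, 0, 4, 1, 4, 0, 0, 0, 3, 2, 1, 4, 0, 0, 0, 3, 0, 4, 0, 0, 3, 0, 4, 2, 0, 3, 2, 0, 3, 1, 1, 3, 0, 0, 3, 1, 4, 1, 2, 0, 4], [0, 3, 2, 0, 0, 3, 3, 2, 1, 2, 1, 4, 4, 0, 4, 4, 1, 1, 4, 2, 0, 4, 1, 4, 2, 1, 3, 0, 4, 0, 3, 0, 4, 1, 4], [2, 1, 1, 4, 1, 4, 1, 3, 0, 2, 0, 0, 0, 2, 1, 4, 4, 2, 1, 1, 1, 3, 3, 1, 1, 3, 0, 0, 3, 1, 4, 1, 2, 0, 4], [1, 3, 0, 4, 4, 1, 1, 1, 4, 0, 0, 4, 0, 2, 1, 3, 2, 0, 0, 3, 2, 0, 4, 1, 4, 1, 1, 3, 3, 1, 3, 0, 4, 1, 4, 1, 4], [0, 0, 2, 1, 4, 4, 2, 0, 3, 3, 1, 2, 1, 1, 4, 0, 3, 3, 2, 0, 0, 3, 1, 1, 3, 0, 0], [4, 4, 2, 0, 0, 0, 3, 2, 3, 2, 0, 0, 3, 3, 1, 3, 3, 0, 2, 3, 0, 3, 1, 4, 1, 3, 1, 4, 0, 3, 2, 0, 3, 1],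 [1, 4, 2, 1, 4, 0, 3, 2, 0, 2, 0, 0, 3, 3, 1, 3, 3, 0, 2, 0, 3, 0, 4, 0, 0, 3, 0, 4, 2, 0, 3, 2, 0, 4], [4, 1, 3, 1, 3, 1, 4, 0, 3, 0, 2, 0, 4, 0, 4, 0, 0, 3, 0, 0, 4, 2, 1, 1, 1, 3, 3, 2, 0, 3, 3, 1, 3, 1, 2, 0, 4], [3, 3, 0, 2, 1, 3, 2, 1, 3, 2, 1, 4, 1, 4, 0, 0, 0, 3, 2, 1, 4, 0, 0, 4, 1, 3, 1, 4, 2, 0, 0, 4, 4, 2, 0, 4, 0, 3, 0], [0, 0, 3, 3, 1, 2, 1, 1, 1, 4, 1, 4, 0, 0, 0, 3, 2, 1, 4, 0, 0, 3, 1, 4, 2, 1, 3, 2, 1, 4, 1, 1, 3, 1, 4, 1, 3, 1, 2, 0, 3, 0, 4, 1, 1, 4, 0, 0, 4, 4]]),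
   (0, 4, [], [8536111], [[], [3, 2, 0, 0, 0, 0, 3, 0, 4, 1, 1, 4, 2, 0, 4, 1, 4, 2, 1, 3, 0, 4, 0, 3, 0, 4, 1, 4], [4, 1, 2, 0, 3, 0, 4, 1, 1, 4, 0, 0, 4, 1, 3, 1, 4, 2, 0, 0, 4, 4, 2, 0, 4, 0, 3, 0], [2, 0, 0, 4, 0, 4, 1, 3, 1, 3, 3, 2, 4, 4, 1, 4, 4, 2, 1, 3, 3, 0, 0, 3, 1, 4, 1, 3, 1, 2, 0, 3, 0, 4, 1, 1, 4, 0, 0, 4, 4], [2, 0, 3, 1, 1, 4, 0, 3, 1, 4, 2, 1, 1, 1, 3, 3, 2, 0, 3, 3, 1, 3, 3, 0, 4, 1, 1, 4, 0, 0, 4, 4], [0, 0, 4, 0, 2, 1, 3, 2, 0, 0, 3, 2, 0, 4, 1, 4, 1, 1, 3, 3, 1, 3, 0, 4, 1, 4, 1, 1, 2, 0, 3, 0, 4, 1, 1, 4, 0, 0, 4, 4], [1, 3, 3, 1, 4, 0, 3, 0, 0, 0, 0, 0, 4, 1, 4, 0, 0, 0, 3, 2, 1, 4, 0, 3, 1, 2, 0, 3, 0, 4, 1, 1, 4, 0, 0,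 4, 4], [3, 3, 1, 4, 1, 1, 1, 3, 0, 3, 3, 0, 3, 3, 1, 1, 3, 0, 0, 3, 1, 4, 1, 2, 0, 4], [0, 3, 0, 4, 1, 1, 4, 0, 4, 2, 0, 4, 2, 1, 1, 1, 3, 3, 2, 0, 3, 3, 1, 3, 1, 2, 0, 3, 1, 1, 3, 0, 0, 3, 1, 4, 1, 2, 0, 4], [3, 2, 0, 4, 1, 3, 0, 0, 4, 1, 2, 3, 0, 3, 1, 4, 1, 3, 1, 4, 0, 3, 2, 0, 3, 1, 3, 3, 1, 1, 3, 0, 0, 3, 1, 4, 1, 2, 0, 4], [4, 1, 4, 0, 0, 0, 3, 2, 1, 4, 0, 0, 0, 3, 0, 4, 0, 0, 3, 0, 4, 2, 0, 3, 2, 0, 3, 1, 1, 3, 0, 0, 3, 1, 4, 1, 2, 0, 4], [2, 0, 0, 4, 1, 3, 2, 0, 0, 0, 0, 4, 1, 2, 1, 4, 0, 4, 2, 1, 4, 4, 1, 4, 0, 3, 1, 1, 3, 3, 1, 1, 3, 0, 0, 3, 1, 4, 1, 2, 0, 4], [0, 0, 0, 2, 1, 4, 4, 2, 1, 1, 4, 1, 4, 2, 1, 3, 0, 4, 0, 3, 0, 4, 1, 3,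 1, 1, 3, 0, 0, 3, 1, 4, 1, 2, 0, 4], [1, 1, 1, 1, 4, 1, 3, 0, 4, 4, 0, 4, 1, 4, 1, 1, 3, 3, 1, 3, 0, 4, 1, 4, 1, 1, 2, 0, 3, 0, 4, 1, 1, 4, 0, 0, 4, 4], [4, 1, 4, 1, 3, 3, 2, 1, 1, 4, 2, 4, 1, 4, 2, 1, 3, 0, 4, 0, 3, 0, 4, 1, 3, 1, 1, 3, 0, 0, 3, 1, 4, 1, 2, 0, 4], [3, 2, 0, 0, 3, 3, 1, 3, 3, 0, 2, 3, 1, 4, 2, 1, 3, 2, 1, 4, 1, 1, 3, 1, 4, 1]]),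
   (0, 6, [2162811], [], [[], [3, 3, 1, 1, 3, 0, 0, 3, 1, 4, 1, 2, 0, 4], [3, 1, 2, 0, 3, 0, 4, 1, 1, 4, 0, 0, 4, 4]]),
   (0, 7, [5279, 262637], [], [[]]),
   (0, 8, [262637, 10558], [], [[]]),
   (0, 9, [525274, 18147], [], [[]]),
   (0, 10, [5279, 18147], [], [[]]),
   (0, 11, [10558, 36294], [], [[]]),
   (0, 12, [5279], [], [[]]),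
   (0, 13, [10558], [], [[]]),
   (0, 14, [18147], [], [[]]),
   (0, 15, [36294], [], [[]]),
   (0, 16, [69395], [], [[]]),
   (0, 17, [133817], [], [[]]),
   (0, 18, [262637], [], [[]]),
   (0, 19, [525274], [], [[]]),
   (0, 20, [1050548], [], [[]]),
   (0, 21, [2101096], [], [[]]),
   (0, 22, [4196943], [], [[]]),
   (0, 23, [], [], [[]])]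

theorem r05M_ok : gProgOK [] 33 r05M = true := by decide +kernel

def r05K : List (ℕ × ℕ × List ℕ × List ℕ × List (List ℕ)) :=
  [(0, 6, [], [5279], [[], [2, 1, 3, 0, 0, 3, 1, 2, 4, 1, 4, 0, 0, 0, 3, 2, 1, 4, 0, 0, 3, 1, 3, 1, 3, 3, 0, 3, 1, 1, 1, 3, 2, 0, 3, 1, 2, 0, 3, 0, 4, 1, 1, 4, 0, 0, 4, 4], [0, 2, 0, 0, 3, 1, 3, 3, 1, 3, 0, 0, 4, 4, 0, 0, 3, 0, 4, 0, 0, 2, 0, 4, 0, 4, 0, 0, 3, 0, 0, 4, 2, 4, 1, 3, 1, 4, 2, 0, 0, 4, 4, 2, 0, 4, 0, 3, 0], [4, 4, 2, 1, 4, 4, 0, 2, 4, 1, 4, 2, 0, 0, 0, 3, 1, 3, 0, 3, 3, 2, 1, 3, 3, 0, 0, 0, 3, 1, 1, 2, 1, 3, 0, 4, 2, 1, 1, 1, 3, 0, 3, 1, 3, 1, 2, 0, 3, 0, 4, 1, 1, 4, 0, 0, 4, 4], [2, 1, 3, 2, 0, 3, 3, 1,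 2, 3, 3, 1, 2, 1, 1, 1, 2, 0, 3, 1, 1, 4, 0, 3, 1, 4, 2, 4, 4, 1, 4, 4, 2, 1, 3, 3, 0, 0, 3, 1, 4, 1, 3, 1, 2, 0, 3, 0, 4, 1, 1, 4, 0, 0, 4, 4], [2, 0, 3, 1, 4, 0, 2, 0, 0, 3, 3, 1, 2, 1, 1, 1, 2, 1, 4, 4, 0, 4, 4, 1, 1, 4, 1, 3, 3, 2, 0, 3, 0, 3, 0, 4, 1, 2, 1, 3, 3, 1, 1, 3, 0, 0, 3, 1, 4, 1, 2, 0, 4], [2, 0, 3, 2, 3, 1, 3, 1, 4, 4, 1, 1, 4, 2, 0, 4, 1, 3, 3, 3, 1, 1, 4, 0, 3, 1, 4, 2, 0, 4, 1, 4, 0, 0, 0, 3, 2, 1, 4, 0, 3, 1, 2, 0, 3, 0, 4, 1, 1, 4, 0, 0, 4, 4], [3, 3, 2, 1, 4, 4, 0, 2, 1, 1, 1, 1, 4, 1, 3, 0, 4, 4, 0, 0, 4, 1, 4, 0, 0, 0, 3, 2, 1, 4, 0, 3, 1, 2, 0, 3, 0, 4, 1, 1, 4, 0, 0, 4, 4], [4, 0, 3, 0, 3, 0, 4, 4, 0, 0, 3, 0, 4, 0, 0,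 2, 0, 0, 4, 1, 3, 2, 0, 0, 0, 0, 4, 0, 4, 0, 3, 3, 2, 0, 0, 3, 1, 1, 3, 0, 0, 3, 3, 1, 1, 3, 0, 0, 3, 1, 4, 1, 2, 0, 4], [4, 4, 2, 0, 4, 1, 4, 1, 1, 2, 4, 1, 3, 1, 3, 1, 4, 0, 3, 0, 3, 3, 2, 1, 3, 3, 0, 0, 0, 3, 1, 1, 2, 4, 1, 4, 1, 1, 3, 3, 1, 3, 0, 4, 1, 4, 1, 4], [4, 2, 1, 1, 4, 1, 1, 2, 3, 2, 0, 3, 3, 0, 4, 0, 0, 4, 2, 4, 1, 4, 0, 0, 0, 3, 2, 1, 4, 0, 0, 0, 4, 1, 4, 0, 0, 0, 3, 2, 1, 4, 0], [3, 3, 2, 1, 3, 0, 2, 0, 0, 2, 1, 4, 4, 2, 1, 1, 3, 3, 2, 1, 3, 3, 0, 0, 0, 3, 1, 1, 2, 4, 4, 1, 4, 4, 2, 1, 3, 3, 0, 0, 3, 1, 4, 1], [3, 3, 2, 0, 4, 1, 1, 2, 4, 4, 0, 0, 3, 0, 4, 0, 0, 4, 1, 4, 1, 3, 3, 2, 1, 1, 4, 2, 1, 3, 3, 1, 1, 3, 0, 0, 3, 1, 4, 1,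 2, 0, 4], [2, 0, 3, 2, 4, 2, 1, 4, 0, 3, 2, 3, 3, 0, 2, 1, 3, 2, 1, 3, 2, 1, 2, 0, 3, 1, 1, 4, 0, 3, 1, 4, 1, 4, 0, 4, 2, 1, 4, 4, 1, 4, 0, 3, 1, 1, 3, 3, 1, 1, 3, 0, 0, 3, 1, 4, 1, 2, 0, 4], [0, 2, 0, 3, 2, 1, 1, 1, 2, 4, 1, 3, 1, 3, 1, 4, 0, 3, 0, 3, 3, 1, 4, 1, 1, 1, 3, 0, 3, 3, 3, 0, 4, 2, 1, 1, 1, 3, 0, 3, 1, 3, 1, 2, 0, 3, 0, 4, 1, 1, 4, 0, 0, 4, 4]]),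
   (0, 8, [], [5279], [[], [3, 3, 2, 1, 4, 0, 2, 1, 4, 2, 1, 4, 0, 3, 2, 0, 4, 2, 0, 0, 4, 0, 4, 1, 3, 1, 3, 3, 2, 0, 3, 0, 4, 0, 0, 3, 0, 4, 2, 0, 3, 2, 0, 3, 1, 1, 3, 0, 0, 3, 1, 4, 1, 2, 0, 4], [2, 0, 3, 1, 4, 0, 2, 4, 1, 3, 1, 3, 1, 4, 0, 3, 0, 2, 0, 4, 0, 4, 0, 0, 3, 0, 0, 4, 2, 4, 1, 3, 1, 4, 2, 0, 0, 4, 4, 2, 0, 4, 0, 3, 0, 3, 3, 1, 1, 3, 0, 0, 3, 1, 4, 1, 2, 0, 4], [2, 1, 3, 0, 0, 3, 1, 2, 4, 4, 2, 0, 0, 0, 3, 2, 3, 3, 2, 1, 3, 3, 0, 0, 0, 3, 1, 1, 1, 4, 0, 4, 2, 1, 4, 4, 1, 4, 0, 3, 1, 1, 3, 3, 1, 1, 3, 0, 0, 3, 1, 4, 1, 2, 0, 4], [3, 3, 2, 1, 4, 0, 0, 4, 4, 0, 3, 1, 3, 2, 1, 3, 3, 1, 4, 0, 3, 0, 0, 0, 0, 2, 1, 3, 3, 2, 0, 3, 0, 3, 0,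 4, 1, 2, 1], [2, 1, 3, 0, 0, 3, 0, 4, 0, 4, 1, 3, 1, 3, 3, 2, 1, 1, 1, 3, 3, 2, 0, 3, 3, 1, 3, 3, 0, 4, 1, 1, 4, 0, 0, 4, 4], [4, 2, 1, 1, 4, 1, 1, 2, 3, 2, 0, 3, 3, 0, 4, 0, 0, 4, 0, 0, 4, 0, 4, 1, 3, 1, 3, 3, 2, 1, 3, 0, 4, 2, 1, 1, 1, 3, 0, 3, 1, 3, 3, 1, 1, 3, 0, 0, 3, 1, 4, 1, 2, 0, 4], [3, 3, 2, 1, 3, 0, 0, 4, 4, 0, 3, 1, 3, 2, 3, 2, 0, 0, 0, 0, 3, 0, 4, 1, 1, 4, 2, 3, 0, 3, 1, 4, 1, 3, 1, 4, 0, 3, 2, 0, 3, 1, 3, 1, 2, 0, 3, 0, 4, 1, 1, 4, 0, 0, 4, 4], [0, 2, 0, 2, 1, 4, 4, 0, 2, 0, 0, 2, 1, 4, 4, 2, 1, 1, 1, 3, 3, 1, 4, 0, 3, 0, 0, 0, 0, 3, 1, 2, 0, 4, 0, 4, 4, 1, 4, 4, 2, 0, 0, 0, 3, 3, 1, 1, 3, 0, 0, 3, 1, 4, 1, 2, 0, 4], [4, 2, 1, 3,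 0, 3, 2, 3, 0, 0, 0, 3, 3, 1, 4, 1, 1, 1, 4, 1, 3, 0, 4, 4, 0], [2, 0, 3, 2, 4, 2, 1, 4, 0, 3, 2, 4, 1, 3, 1, 3, 1, 4, 0, 3, 0, 4, 1, 4, 0, 0, 0, 3, 2, 1, 4, 0, 3, 0, 4, 2, 1, 1, 1, 3, 0, 3, 1], [4, 2, 1, 1, 4, 1, 1, 2, 0, 0, 4, 0, 2, 1, 3, 2, 0, 0, 3, 2, 0, 4, 4, 1, 4, 4, 2, 1, 3, 3, 0, 0, 3, 1, 4, 1], [3, 3, 2, 1, 3, 0, 0, 0, 4, 1, 3, 2, 0, 0, 0, 0, 4, 4, 1, 4, 0, 0, 0, 3, 2, 1, 4, 0, 3, 1, 2, 0, 3, 0, 4, 1, 1, 4, 0, 0, 4, 4], [2, 1, 3, 0, 4, 1, 1, 1, 3, 1, 3, 1, 4, 4, 1, 2, 3, 2, 0, 4, 1, 3, 0, 0, 4, 1, 2, 0, 4, 1, 4, 0, 0, 0, 3, 2, 1, 4, 0, 3, 1, 2, 0, 3, 0, 4, 1, 1, 4, 0, 0, 4, 4]]),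
   (1, 262637, [], [], []),
   (0, 9, [], [5279, 262637], [[], [2, 0, 0, 3, 2, 3, 2, 1, 1, 1, 2, 4, 1, 4, 1, 4, 1, 1, 3, 3, 1, 4, 0, 3, 0, 0, 0, 3, 0, 4, 2, 1, 1, 1, 3, 0, 3, 1, 3, 3, 1, 1, 3, 0, 0, 3, 1, 4, 1, 2, 0, 4], [0, 2, 0, 3, 2, 1, 1, 1, 1, 3, 1, 3, 1, 4, 4, 1, 2, 4, 1, 2, 0, 3, 0, 4, 1, 1, 4, 0, 0, 4, 4, 1, 4, 4, 2, 1, 3, 3, 0, 0, 3, 1, 4, 1, 3, 1, 2, 0, 3, 0, 4, 1, 1, 4, 0, 0, 4, 4], [2, 0, 0, 3, 2, 4, 2, 1, 3, 0, 3, 2, 4, 2, 0, 4, 1, 3, 3, 1, 2, 3, 2, 0, 0, 3, 3, 1, 3, 0, 4, 2, 1, 4, 4, 1, 4, 0, 3, 1, 1, 3, 3, 1, 1, 3, 0, 0, 3, 1, 4, 1, 2, 0, 4], [3, 0, 3, 0, 3, 0, 0, 0, 0, 4, 0, 2, 0, 0, 0, 0, 0, 4, 1, 4, 0, 0, 0, 3, 2, 1, 4, 0, 3,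 0, 4, 2, 1, 1, 1, 3, 0, 3, 1, 3, 3, 1, 1, 3, 0, 0, 3, 1, 4, 1, 2, 0, 4], [3, 3, 2, 1, 4, 0, 2, 0, 0, 2, 1, 4, 4, 2, 1, 1, 2, 0, 4, 0, 4, 0, 0, 3, 0, 0, 4, 2, 3, 0, 3, 1, 4, 1, 3, 1, 4, 0, 3, 2, 0, 3, 1], [0, 2, 0, 2, 0, 4, 1, 1, 2, 4, 1, 4, 2, 0, 0, 0, 3, 1, 3, 0, 4, 1, 4, 0, 0, 0, 3, 2, 1, 4, 0, 0, 2, 1, 3, 3, 2, 0, 3, 0, 3, 0, 4, 1, 2, 1], [3, 3, 2, 0, 4, 1, 1, 2, 4, 4, 0, 0, 3, 0, 4, 0, 0, 4, 1, 4, 1, 3, 3, 2, 1, 1, 4, 2, 1], [0, 2, 0, 2, 1, 4, 4, 0, 2, 3, 0, 0, 0, 3, 3, 1, 4, 0, 2, 0, 0, 4, 0, 4, 1, 3, 1, 3, 3, 2, 3, 0, 3, 1, 4, 1, 3, 1, 4, 0, 3, 2, 0, 3, 1], [4, 2, 1, 3, 0, 3, 2, 4, 1, 4, 2, 0, 0, 0, 3, 1, 3, 0, 3, 2, 0, 0, 3, 3, 1, 3, 3,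 0, 2, 4, 1, 3, 1, 4, 2, 0, 0, 4, 4, 2, 0, 4, 0, 3, 0, 3, 1, 2, 0, 3, 0, 4, 1, 1, 4, 0, 0, 4, 4], [2, 0, 0, 3, 2, 0, 3, 1, 3, 3, 1, 3, 0, 0, 2, 1, 1, 4, 1, 4, 1, 3, 0, 0, 0, 4, 1, 3, 2, 0, 0, 0, 0, 4, 4, 1, 4, 2, 1, 3, 0, 4, 0, 3, 0, 4, 1, 4], [3, 3, 3, 0, 3, 0, 2, 1, 4, 0, 3, 2, 0, 4, 4, 1, 4, 0, 0, 0, 3, 2, 1, 4, 0, 0, 0, 3, 0, 4, 0, 0, 3, 0, 4, 2, 0, 3, 2, 0, 4]]),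
   (0, 4, [4203377, 5279], [], [[]]),
   (0, 18, [262637], [5279], [[]]),
   (0, 1, [267634, 786999], [], [[]]),
   (0, 2, [786999, 5279], [], [[]]),
   (0, 3, [262637, 10558], [], [[]]),
   (0, 7, [262637], [], [[]]),
   (0, 10, [5279, 18147], [], [[]]),
   (0, 11, [10558, 36294], [], [[]]),
   (0, 12, [5279], [], [[]]),
   (0, 13, [10558], [], [[]]),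
   (0, 14, [18147], [], [[]]),
   (0, 15, [36294], [], [[]]),
   (0, 16, [69395], [], [[]]),
   (0, 17, [133817], [], [[]]),
   (0, 19, [525274], [], [[]]),
   (0, 20, [1050548], [], [[]]),
   (0, 21, [2101096], [], [[]]),
   (0, 22, [4196943], [], [[]]),
   (0, 23, [], [], [[]])]

theorem r05K_ok : gProgOK [5279] 33 r05K = true := by decide +kernel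

def r05S2 : List (ℕ × ℕ × List ℕ × List ℕ × List (List ℕ)) :=
  [(0, 8, [], [175681, 5279], [[], [0, 2, 0, 2, 1, 4, 4, 0, 2, 3, 2, 0, 3, 3, 0, 4, 0, 0, 4, 2, 1, 1, 1, 1, 4, 1, 3, 0, 4, 4, 0, 0, 0, 4, 0, 3, 3, 2, 0, 0, 3, 1, 1, 3, 0, 0, 3, 3, 1, 1, 3, 0, 0, 3, 1, 4, 1, 2, 0, 4], [3, 3, 2, 1, 4, 0, 0, 4, 4, 0, 3, 1, 3, 0, 3, 1, 1, 4, 0, 3, 1, 4, 2, 0, 0, 4, 0, 3, 3, 2, 0, 0, 3, 1, 1, 3, 0, 0, 3, 3, 1, 1, 3, 0, 0, 3, 1, 4, 1, 2, 0, 4], [2, 1, 3, 2, 3, 2, 1, 3, 1, 2, 0, 0, 3, 3, 1, 2, 1, 1, 1, 1, 3, 3, 1, 4, 0, 3, 0, 0, 0, 0, 0, 4, 1, 4, 2, 1, 3, 0, 4, 0, 3, 0, 4, 1, 1, 2, 0, 3, 0, 4, 1, 1, 4, 0, 0, 4, 4], [3, 3, 3, 0, 3, 0, 3, 0, 4, 1, 3, 1, 3,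 1, 4, 0, 3, 0, 2, 0, 3, 1, 1, 4, 0, 3, 1, 4, 2, 3, 1, 4, 2, 1, 3, 2, 1, 4, 1, 1, 3, 1, 4, 1, 3, 1, 2, 0, 3, 0, 4, 1, 1, 4, 0, 0, 4, 4], [4, 4, 2, 0, 4, 1, 4, 1, 1, 2, 4, 1, 3, 1, 3, 1, 4, 0, 3, 0, 3, 3, 2, 1, 3, 3, 0, 0, 0, 3, 1, 1, 2, 4, 1, 4, 1, 1, 3, 3, 1, 3, 0, 4, 1, 4, 1, 3, 1, 1, 3, 0, 0, 3, 1, 4, 1, 2, 0, 4], [2, 0, 3, 0, 0, 3, 1, 2, 1, 3, 0, 4, 4, 1, 1, 1, 4, 0, 3, 0, 4, 1, 1, 4, 0, 4, 2, 0, 4, 2, 0, 3, 0, 4, 0, 0, 3, 0, 4, 2, 0, 3, 0, 3, 0, 4, 1, 1, 4, 0, 0, 4, 4], [4, 4, 0, 3, 1, 3, 3, 1, 3, 0, 0, 3, 2, 0, 3, 3, 0, 4, 0, 0, 4, 0, 0, 4, 1, 3, 2, 0, 0, 0, 0, 4, 1, 3, 0, 3, 1, 4, 1, 3, 1, 4, 0, 3, 2, 0, 3, 1], [0, 2, 0, 0, 3, 3, 1, 2, 3,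 3, 1, 2, 1, 1, 1, 2, 1, 4, 4, 0, 4, 4, 1, 1, 4, 2, 4, 4, 1, 4, 4, 2, 1, 3, 3, 0, 0, 3, 1, 4, 1, 3, 1, 2, 0, 3, 0, 4, 1, 1, 4, 0, 0, 4, 4]]),
   (0, 10, [175681, 5279], [], [[]]),
   (1, 10558, [], [], []),
   (0, 1, [5279, 10558], [], [[], [4, 4, 0, 3, 1, 3, 3, 1, 3, 0, 0, 0, 0, 2, 1, 4, 4, 2, 1, 1, 2, 0, 3, 1, 1, 4, 0, 3, 1, 4, 2, 1, 1, 1, 3, 3, 2, 0, 3, 3, 1, 3, 3, 0, 4, 1, 1, 4, 0, 0, 4, 4], [2, 0, 3, 1, 4, 0, 2, 4, 4, 0, 0, 3, 0, 4, 0, 0, 0, 0, 0, 3, 3, 1, 2, 1, 1, 1, 1, 3, 1, 4, 2, 1, 3, 2, 1, 4, 1, 1, 3, 1, 4, 1], [3, 3, 3, 0, 3, 0, 3, 0, 2, 0, 0, 4, 1, 3, 2, 0, 0, 0, 0, 4, 1, 2, 1, 3, 3, 2, 0, 3, 0, 3, 0, 4, 1, 2, 1, 3, 1, 2, 0, 3, 0, 4,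 1, 1, 4, 0, 0, 4, 4]]),
   (0, 2, [6292775, 5279], [], [[]]),
   (1, 18147, [], [], []),
   (0, 7, [5279, 18147], [], [[]]),
   (0, 3, [5279, 198058], [], [[]]),
   (0, 4, [5279, 10558], [], [[]]),
   (0, 6, [262637, 175681], [], [[]]),
   (0, 9, [18147, 175681], [], [[]]),
   (0, 11, [10558, 36294], [], [[]]),
   (0, 12, [5279], [], [[]]),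
   (0, 13, [10558], [], [[]]),
   (0, 14, [18147], [], [[]]),
   (0, 15, [36294], [], [[]]),
   (0, 16, [69395], [], [[]]),
   (0, 17, [175681], [], [[]]),
   (0, 18, [262637], [], [[]]),
   (0, 19, [525274], [], [[]]),
   (0, 20, [1050548], [], [[]]),
   (0, 21, [2101096], [], [[]]),
   (0, 22, [4196943], [], [[]]),
   (0, 23, [], [], [[]])]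

theorem r05S2_ok : gProgOK [175681, 5279] 33 r05S2 = true := by decide +kernel

def r05S4 : List (ℕ × ℕ × List ℕ × List ℕ × List (List ℕ)) :=
  [(0, 1, [5279], [39257], [[], [4, 4, 2, 1, 4, 4, 0, 2, 4, 1, 4, 2, 0, 0, 0, 3, 1, 3, 0, 0, 0, 0, 3, 3, 1, 2, 1, 1, 1, 3, 0, 4, 0, 0, 3, 0, 4, 2, 0, 3, 2, 0, 3, 1, 1, 3, 0, 0, 3, 1, 4, 1, 2, 0, 4], [2, 1, 3, 2, 0, 3, 3, 1, 2, 1, 1, 2, 1, 1, 4, 1, 4, 1, 3, 0, 0, 3, 1, 1, 4, 0, 3, 1, 4, 2, 3, 3, 1, 1, 3, 0, 0, 3, 1, 4, 1, 2, 0, 4], [2, 0, 0, 3, 2, 4, 2, 1, 4, 0, 3, 2, 4, 2, 1, 1, 1, 3, 3, 2, 4, 1, 2, 0, 3, 0, 4, 1, 1, 4, 0, 3, 0, 4, 2, 1, 1, 1, 3, 0, 3, 1, 3, 3, 1, 1, 3, 0, 0, 3, 1, 4, 1, 2, 0, 4]]),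
   (0, 2, [5279], [39257], [[], [4, 2, 1, 3, 0, 3, 2, 3, 0, 0, 0, 3, 3, 1, 4, 0, 2, 0, 0, 4, 1, 3, 2, 0, 0, 0, 0, 4, 1, 3, 1, 3, 1, 3, 3, 0, 3, 1, 1, 1, 3, 2, 0], [3, 2, 1, 1, 1, 2, 1, 4, 2, 1, 4, 0, 3, 2, 0, 4, 0, 0, 4, 0, 2, 1, 3, 2, 0, 0, 3, 2, 0, 4, 1, 3, 1, 4, 2, 0, 0, 4, 4, 2, 0, 4, 0, 3, 0, 3, 3, 1, 1, 3, 0, 0, 3, 1, 4, 1, 2, 0, 4]]),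
   (0, 7, [5279], [39257], [[], [4, 1, 4, 1, 4, 1, 3, 1, 2, 0, 4, 0, 4, 4, 1, 4, 4, 2, 0, 0, 0]]),
   (0, 10, [5279], [39257], [[]]),
   (0, 6, [18147, 39257], [], [[]]),
   (0, 3, [5279, 262637], [], [[]]),
   (0, 4, [5279, 42232], [], [[]]),
   (0, 8, [262637, 39257], [], [[]]),
   (0, 9, [18147, 69395], [], [[]]),
   (0, 11, [10558, 39257], [], [[]]),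
   (0, 12, [5279], [], [[]]),
   (0, 13, [10558], [], [[]]),
   (0, 14, [18147], [], [[]]),
   (0, 15, [39257], [], [[]]),
   (0, 16, [69395], [], [[]]),
   (0, 17, [133817], [], [[]]),
   (0, 18, [262637], [], [[]]),
   (0, 19, [525274], [], [[]]),
   (0, 20, [1050548], [], [[]]),
   (0, 21, [2101096], [], [[]]),
   (0, 22, [4196943], [], [[]]),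
   (0, 23, [], [], [[]])]

theorem r05S4_ok : gProgOK [39257, 5279] 33 r05S4 = true := by decide +kernel

end Cfsg.Agent.Helper3
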