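import Cfsg.Agent.Helper3.Rank.Basic

/-!
Order certificates for the rank computation `r07` (machine generated).
-/

set_option autoImplicit false

namespace Cfsg.Agent.Helper3

open Cfsg

def r07K : List (ℕ × ℕ × List ℕ × List ℕ × List (List ℕ)) :=
  [(0, 5, [], [5279], [[], [0, 2, 0, 2, 0, 4, 1, 1, 2, 0, 0, 4, 0, 2, 1, 3, 2, 0, 0, 3, 2, 0, 2, 1, 4, 0, 4, 2, 1, 4, 4, 1, 4, 0, 3, 1, 1], [3, 3, 2, 1, 4, 0, 2, 1, 4, 2, 1, 4, 0, 3, 2, 0, 4, 2, 0, 0, 4, 0, 4, 1, 3, 1, 3, 3, 2, 1, 1, 1, 3, 3, 2, 0, 3, 3, 1, 3, 3, 0, 4, 1, 1, 4, 0, 0, 4, 4], [0, 2, 0, 2, 1, 4, 4, 0, 2, 0, 3, 2, 0, 0, 3, 3, 2, 1, 1, 3, 3, 1, 4, 0, 3, 0, 3, 3, 2, 0, 3, 3, 1, 3, 1, 2, 0, 3, 1,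 1, 3, 0, 0, 3, 1, 4, 1, 2, 0, 4], [2, 0, 0, 3, 2, 4, 2, 1, 4, 0, 3, 1, 1, 4, 1, 4, 1, 3, 0, 2, 4, 1, 2, 0, 3, 0, 4, 1, 1, 4, 0, 0, 4, 4, 1, 4, 4, 2, 1, 3, 3, 0, 0, 3, 1, 4, 1, 3, 3, 1, 1, 3, 0, 0, 3, 1, 4, 1, 2, 0, 4], [2, 0, 0, 3, 2, 4, 2, 1, 3, 0, 3, 2, 4, 1, 3, 1, 3, 1, 4, 0, 3, 0, 2, 0, 0, 4, 1, 3, 2, 0, 0, 0, 0, 4, 1, 3, 1, 3, 1, 3, 3, 0, 3, 1, 1, 1, 3, 2, 0], [0, 2, 0, 3, 2, 0, 0, 3, 3, 0, 4, 4, 0, 3, 1, 3, 0, 0, 4, 1, 3, 2, 0, 0, 0, 0, 4, 1, 4, 4, 1, 4, 4, 2, 1, 3, 3, 0, 0, 3, 1, 4, 1, 3, 1, 2, 0, 3, 0, 4, 1, 1, 4, 0, 0, 4, 4], [3, 2, 1, 1, 1, 2, 4, 1, 4, 1, 4, 1, 3, 2, 0, 0, 0, 0, 3, 0, 4, 1, 1, 4, 2, 4, 1, 3, 1, 4, 2, 0, 0, 4, 4, 2, 0, 4, 0,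 3, 0, 3, 3, 1, 1, 3, 0, 0, 3, 1, 4, 1, 2, 0, 4], [2, 1, 3, 1, 4, 0, 2, 4, 1, 4, 1, 4, 0, 0, 2, 1, 4, 4, 2, 1, 1, 1, 4, 4, 1, 4, 4, 2, 1, 3, 3, 0, 0, 3, 1, 4, 1, 3, 3, 1, 1, 3, 0, 0, 3, 1, 4, 1, 2, 0, 4], [0, 3, 1, 3, 3, 1, 3, 0, 0, 4, 1, 4, 0, 0, 0, 3, 2, 1, 4, 0, 0, 4, 1, 4, 1, 1, 3, 3, 1, 3, 0, 4, 1, 4, 1, 3, 1, 1, 3, 0, 0, 3, 1, 4, 1, 2, 0, 4], [0, 2, 0, 0, 3, 3, 1, 2, 1, 1, 4, 4, 0, 0, 3, 0, 4, 0, 0, 2, 0, 4, 0, 4, 0, 0, 3, 0, 0, 4, 1, 4, 0, 4, 2, 1, 4, 4, 1, 4, 0, 3, 1, 1, 3, 3, 1, 1, 3, 0, 0, 3, 1, 4, 1, 2, 0, 4], [4, 4, 2, 0, 4, 1, 4, 1, 1, 2, 0, 0, 3, 3, 1, 2, 1, 1, 1, 2, 0, 4, 0, 4, 0, 0, 3, 0, 0, 4, 1, 4, 0, 4, 2, 1, 4, 4, 1, 4, 0, 3, 1, 1,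 3, 1, 2, 0, 3, 0, 4, 1, 1, 4, 0, 0, 4, 4], [3, 3, 2, 1, 4, 4, 0, 2, 4, 1, 3, 1, 3, 1, 4, 0, 3, 0, 3, 2, 0, 0, 3, 3, 1, 3, 3, 0, 2, 3, 3, 1, 1, 3, 0, 0, 3, 1, 4, 1, 2, 0, 4], [2, 0, 3, 1, 4, 0, 2, 4, 4, 0, 0, 3, 0, 4, 0, 0, 2, 0, 4, 0, 4, 0, 0, 3, 0, 0, 4, 2, 0, 0, 4, 0, 3, 3, 2, 0, 0, 3, 1, 1, 3, 0, 0, 3, 3, 1, 1, 3, 0, 0, 3, 1, 4, 1, 2, 0, 4], [0, 2, 0, 2, 0, 4, 1, 1, 2, 3, 2, 0, 3, 3, 0, 4, 0, 0, 4, 0, 0, 4, 0, 4, 1, 3, 1, 3, 3, 2, 4, 1, 3, 1, 4, 2, 0, 0, 4, 4, 2, 0, 4, 0, 3, 0, 3, 3, 1, 1, 3, 0, 0, 3, 1, 4, 1, 2, 0, 4], [4, 0, 3, 0, 3, 0, 4, 1, 4, 2, 0, 0, 0, 3, 1, 3, 0, 0, 0, 4, 0, 2, 1, 3, 2, 0, 0, 3, 2, 0, 0, 4, 1, 4, 2, 1, 3, 0, 4, 0, 3, 0, 4,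 1, 4]]),
   (0, 6, [], [5279], [[], [2, 0, 0, 3, 2, 4, 2, 1, 4, 0, 3, 2, 3, 2, 0, 3, 3, 0, 4, 0, 0, 4, 2, 3, 2, 0, 0, 0, 0, 3, 0, 4, 1, 1, 4, 2, 4, 1, 3, 1, 4, 2, 0, 0, 4, 4, 2, 0, 4, 0, 3, 0], [2, 0, 3, 2, 3, 0, 3, 0, 3, 0, 4, 2, 1, 1, 1, 3, 3, 2, 3, 3, 1, 1, 3, 0, 0, 3, 1, 4, 1, 2, 0, 4], [4, 0, 3, 0, 3, 0, 4, 2, 1, 1, 1, 3, 3, 1, 4, 4, 0, 4, 4, 1, 1, 4, 2, 4, 4, 1, 4, 4, 2, 1, 3, 3, 0, 0, 3, 1, 4, 1, 3, 3, 1, 1, 3, 0, 0, 3, 1, 4, 1, 2, 0, 4], [2, 0, 3, 2, 3, 0, 3, 0, 3, 0, 4, 2, 1, 1, 1, 3, 3, 2, 0, 0, 4, 0, 2, 1, 3, 2, 0, 0, 3, 2, 0, 4, 1, 4, 1, 1, 3, 3, 1, 3, 0, 4, 1, 4, 1, 1, 2, 0, 3, 0, 4, 1, 1, 4, 0, 0, 4, 4], [4, 0, 3, 0, 3, 0, 4, 2, 1, 1,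 1, 3, 3, 2, 0, 0, 0, 3, 3, 1, 2, 1, 1, 1, 3, 0, 4, 0, 0, 3, 0, 4, 2, 0, 3, 2, 0, 3, 1, 1, 3, 0, 0, 3, 1, 4, 1, 2, 0, 4], [3, 0, 3, 0, 3, 0, 2, 1, 1, 4, 1, 4, 1, 3, 0, 2, 4, 1, 4, 1, 3, 3, 2, 1, 1, 4, 2, 1, 3, 1, 2, 0, 4, 0, 4, 4, 1, 4, 4, 2, 0, 0, 0, 3, 1, 2, 0, 3, 0, 4, 1, 1, 4, 0, 0, 4, 4], [2, 0, 3, 2, 3, 0, 3, 0, 3, 0, 4, 2, 1, 1, 1, 3, 3, 2, 3, 3, 1, 4, 1, 1, 1, 3, 0, 3, 3, 0, 3, 1, 2, 0, 3, 0, 4, 1, 1, 4, 0, 0, 4, 4], [4, 0, 3, 0, 3, 0, 4, 2, 1, 1, 1, 3, 3, 0, 4, 0, 4, 0, 0, 3, 0, 0, 4, 2, 1, 3, 0, 4, 2, 1, 1, 1, 3, 0, 3, 1, 3, 1, 2, 0, 3, 0, 4, 1, 1, 4, 0, 0, 4, 4], [3, 0, 3, 0, 3, 0, 0, 3, 2, 0, 0, 3, 3, 2, 1, 3, 0, 3, 1, 4, 1, 3, 1, 4, 0, 3,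 2, 0, 3, 1], [4, 1, 2, 0, 3, 0, 4, 1, 1, 4, 0, 0, 4, 1, 3, 1, 4, 2, 0, 0, 4, 4, 2, 0, 4, 0, 3, 0, 3, 1, 2, 0, 3, 0, 4, 1, 1, 4, 0, 0, 4, 4], [3, 3, 1, 4, 1, 1, 1, 3, 0, 3, 3, 0, 3, 1, 2, 0, 3, 0, 4, 1, 1, 4, 0, 0, 4, 4], [2, 0, 3, 1, 4, 0, 2, 4, 4, 2, 0, 0, 0, 3, 2, 0, 0, 4, 0, 2, 1, 3, 2, 0, 0, 3, 2, 0, 3, 0, 3, 1, 4, 1, 3, 1, 4, 0, 3, 2, 0, 3, 1, 3, 1, 2, 0, 3, 0, 4, 1, 1, 4, 0, 0, 4, 4], [4, 0, 3, 0, 3, 0, 4, 2, 1, 1, 1, 3, 3, 2, 3, 3, 2, 1, 3, 3, 0, 0, 0, 3, 1, 1, 2, 1, 3, 0, 4, 2, 1, 1, 1, 3, 0, 3, 1], [4, 0, 3, 0, 3, 0, 4, 2, 1, 1, 1, 3, 3, 1, 4, 4, 0, 4, 4, 1, 1, 4, 2, 4, 4, 1, 4, 4, 2, 1, 3, 3, 0, 0, 3, 1, 4, 1, 3, 1, 2, 0, 3, 0, 4, 1, 1, 4,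 0, 0, 4, 4]]),
   (0, 8, [], [5279], [[], [0, 2, 0, 2, 0, 4, 1, 1, 2, 3, 1, 4, 2, 1, 3, 2, 1, 4, 1, 1, 3, 1, 4, 1], [2, 0, 3, 0, 0, 0, 4, 2, 4, 1, 4, 2, 0, 0, 0, 3, 1, 3, 0, 0, 0, 0, 3, 3, 1, 2, 1, 1, 1, 1, 2, 1, 3, 3, 2, 0, 3, 0, 3, 0, 4, 1, 2, 1, 3, 1, 2, 0, 3, 0, 4, 1, 1, 4, 0, 0, 4, 4], [3, 3, 2, 0, 4, 4, 0, 3, 1, 3, 2, 3, 2, 0, 0, 0, 0, 3, 0, 4, 1, 1, 4, 2, 1, 1, 1, 3, 3, 2, 0, 3, 3, 1, 3, 1, 2, 0, 3, 1, 1, 3, 0, 0, 3, 1, 4, 1, 2, 0, 4], [3, 3, 2, 1, 4, 4, 0, 0, 4, 4, 0, 3, 1, 3, 2, 1, 3, 3, 1, 4, 0, 3, 0, 0, 0, 0, 4, 1, 4, 1, 1, 3, 3, 1, 3, 0, 4, 1, 4, 1, 3, 1, 1, 3, 0, 0, 3, 1, 4, 1, 2, 0, 4], [2, 0, 0, 3, 2, 4, 1, 4, 2, 0, 0, 0, 3, 1, 3, 0,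 0, 0, 0, 2, 1, 4, 4, 2, 1, 1, 1, 3, 1, 2, 0, 4, 0, 4, 4, 1, 4, 4, 2, 0, 0, 0], [2, 1, 3, 2, 0, 3, 3, 1, 2, 1, 1, 3, 3, 0, 2, 1, 3, 2, 1, 3, 2, 1, 1, 1, 1, 1, 4, 1, 3, 0, 4, 4, 0, 3, 1, 2, 0, 4, 0, 4, 4, 1, 4, 4, 2, 0, 0, 0, 3, 3, 1, 1, 3, 0, 0, 3, 1, 4, 1, 2, 0, 4], [3, 3, 3, 0, 3, 0, 3, 0, 2, 0, 4, 4, 0, 3, 1, 3, 2, 3, 2, 0, 0, 3, 3, 1, 3, 3, 0, 2, 3, 1, 4, 2, 1, 3, 2, 1, 4, 1, 1, 3, 1, 4, 1], [3, 3, 2, 1, 4, 0, 2, 4, 1, 3, 1, 3, 1, 4, 0, 3, 0, 3, 2, 0, 0, 3, 3, 1, 3, 3, 0, 2, 3, 0, 3, 1, 4, 1, 3, 1, 4, 0, 3, 2, 0, 3, 1, 3, 1, 2, 0, 3, 0, 4, 1, 1, 4, 0, 0, 4, 4], [2, 0, 3, 0, 0, 3, 1, 2, 4, 1, 3, 1, 3, 1, 4, 0, 3, 0, 3, 1, 4, 2, 1, 3, 2, 1, 4, 1, 1,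 3, 1, 4, 1, 3, 1, 2, 0, 3, 0, 4, 1, 1, 4, 0, 0, 4, 4], [0, 3, 1, 3, 3, 1, 3, 0, 0, 0, 0, 0, 4, 0, 2, 0, 0, 0, 0, 0, 0, 0, 0, 2, 1, 4, 4, 2, 1, 1, 1, 4, 1, 4, 1, 1, 3, 3, 1, 3, 0, 4, 1, 4, 1, 1, 2, 0, 3, 0, 4, 1, 1, 4, 0, 0, 4, 4], [4, 2, 1, 1, 4, 1, 1, 2, 0, 0, 4, 0, 2, 1, 3, 2, 0, 0, 3, 2, 0, 4, 4, 1, 4, 4, 2, 1, 3, 3, 0, 0, 3, 1, 4, 1], [4, 4, 2, 0, 4, 1, 4, 1, 1, 2, 3, 2, 0, 3, 3, 0, 4, 0, 0, 4, 2, 3, 3, 1, 4, 1, 1, 1, 3, 0, 3, 3, 0, 2, 1, 3, 3, 2, 0, 3, 0, 3, 0, 4, 1, 2, 1, 3, 3, 1, 1, 3, 0, 0, 3, 1, 4, 1, 2, 0, 4], [0, 2, 0, 3, 2, 0, 0, 3, 3, 2, 0, 0, 0, 4, 0, 2, 0, 0, 0, 0, 0, 2, 1, 4, 4, 0, 4, 4, 1, 1, 4, 1, 3, 3, 2, 0, 3, 0, 3, 0, 4, 1, 2, 1]]),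
   (1, 262637, [], [], []),
   (0, 9, [], [5279, 262637], [[], [2, 0, 0, 3, 2, 3, 2, 1, 1, 1, 2, 4, 1, 4, 1, 4, 1, 1, 3, 3, 1, 4, 0, 3, 0, 0, 0, 3, 0, 4, 2, 1, 1, 1, 3, 0, 3, 1, 3, 3, 1, 1, 3, 0, 0, 3, 1, 4, 1, 2, 0, 4], [0, 2, 0, 3, 2, 1, 1, 1, 1, 3, 1, 3, 1, 4, 4, 1, 2, 4, 1, 2, 0, 3, 0, 4, 1, 1, 4, 0, 0, 4, 4, 1, 4, 4, 2, 1, 3, 3, 0, 0, 3, 1, 4, 1, 3, 1, 2, 0, 3, 0, 4, 1, 1, 4, 0, 0, 4, 4], [2, 0, 0, 3, 2, 4, 2, 1, 3, 0, 3, 2, 4, 2, 0, 4, 1, 3, 3, 1, 2, 3, 2, 0, 0, 3, 3, 1, 3, 0, 4, 2, 1, 4, 4, 1, 4, 0, 3, 1, 1, 3, 3, 1, 1, 3, 0, 0, 3, 1, 4, 1, 2, 0, 4], [3, 0, 3, 0, 3, 0, 0, 0, 0, 4, 0, 2, 0, 0, 0, 0, 0, 4, 1, 4, 0, 0, 0, 3, 2, 1, 4, 0, 3, 0, 4,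 2, 1, 1, 1, 3, 0, 3, 1, 3, 3, 1, 1, 3, 0, 0, 3, 1, 4, 1, 2, 0, 4], [3, 3, 2, 1, 4, 0, 2, 0, 0, 2, 1, 4, 4, 2, 1, 1, 2, 0, 4, 0, 4, 0, 0, 3, 0, 0, 4, 2, 3, 0, 3, 1, 4, 1, 3, 1, 4, 0, 3, 2, 0, 3, 1], [0, 2, 0, 2, 0, 4, 1, 1, 2, 4, 1, 4, 2, 0, 0, 0, 3, 1, 3, 0, 4, 1, 4, 0, 0, 0, 3, 2, 1, 4, 0, 0, 2, 1, 3, 3, 2, 0, 3, 0, 3, 0, 4, 1, 2, 1], [3, 3, 2, 0, 4, 1, 1, 2, 4, 4, 0, 0, 3, 0, 4, 0, 0, 4, 1, 4, 1, 3, 3, 2, 1, 1, 4, 2, 1], [0, 2, 0, 2, 1, 4, 4, 0, 2, 3, 0, 0, 0, 3, 3, 1, 4, 0, 2, 0, 0, 4, 0, 4, 1, 3, 1, 3, 3, 2, 3, 0, 3, 1, 4, 1, 3, 1, 4, 0, 3, 2, 0, 3, 1], [4, 2, 1, 3, 0, 3, 2, 4, 1, 4, 2, 0, 0, 0, 3, 1, 3, 0, 3, 2, 0, 0, 3, 3, 1, 3, 3, 0, 2, 4, 1,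 3, 1, 4, 2, 0, 0, 4, 4, 2, 0, 4, 0, 3, 0, 3, 1, 2, 0, 3, 0, 4, 1, 1, 4, 0, 0, 4, 4], [2, 0, 0, 3, 2, 0, 3, 1, 3, 3, 1, 3, 0, 0, 2, 1, 1, 4, 1, 4, 1, 3, 0, 0, 0, 4, 1, 3, 2, 0, 0, 0, 0, 4, 4, 1, 4, 2, 1, 3, 0, 4, 0, 3, 0, 4, 1, 4], [3, 3, 3, 0, 3, 0, 2, 1, 4, 0, 3, 2, 0, 4, 4, 1, 4, 0, 0, 0, 3, 2, 1, 4, 0, 0, 0, 3, 0, 4, 0, 0, 3, 0, 4, 2, 0, 3, 2, 0, 4]]),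
   (0, 4, [4203377, 5279], [], [[]]),
   (0, 18, [262637], [5279], [[]]),
   (0, 1, [267634, 786999], [], [[]]),
   (0, 2, [786999, 5279], [], [[]]),
   (0, 3, [262637, 10558], [], [[]]),
   (0, 7, [262637], [], [[]]),
   (0, 10, [5279, 18147], [], [[]]),
   (0, 11, [10558, 36294], [], [[]]),
   (0, 12, [5279], [], [[]]),
   (0, 13, [10558], [], [[]]),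
   (0, 14, [18147], [], [[]]),
   (0, 15, [36294], [], [[]]),
   (0, 16, [69395], [], [[]]),
   (0, 17, [133817], [], [[]]),
   (0, 19, [525274], [], [[]]),
   (0, 20, [1050548], [], [[]]),
   (0, 21, [2101096], [], [[]]),
   (0, 22, [4196943], [], [[]]),
   (0, 23, [], [], [[]])]

theorem r07K_ok : gProgOK [5279] 1 r07K = true := by decide +kernel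

def r07S2 : List (ℕ × ℕ × List ℕ × List ℕ × List (List ℕ)) :=
  [(0, 6, [], [52005, 5279], [[], [2, 0, 3, 0, 0, 0, 4, 2, 3, 3, 0, 2, 1, 3, 2, 1, 3, 2, 0, 0, 3, 3, 1, 2, 1, 1, 1, 1, 3, 1, 2, 0, 4, 0, 4, 4, 1, 4, 4, 2, 0, 0, 0], [2, 1, 3, 0, 0, 3, 1, 2, 0, 0, 0, 4, 0, 2, 0, 0, 0, 0, 0, 3, 2, 0, 4, 1, 3, 0, 0, 4, 1, 2], [3, 3, 2, 0, 4, 1, 1, 2, 4, 1, 4, 2, 0, 0, 0, 3, 1, 3, 0, 0, 0, 4, 0, 2, 1, 3, 2, 0, 0, 3, 2, 0, 3, 0, 3, 1, 4, 1, 3, 1, 4, 0, 3, 2, 0, 3, 1, 3, 3, 1, 1, 3, 0, 0, 3, 1, 4, 1, 2, 0, 4], [3, 3, 2, 0, 4, 1, 1, 2, 4, 1, 4, 2, 0, 0, 0, 3, 1, 3, 0, 4, 1, 2, 0, 3, 0, 4, 1, 1, 4, 0, 0, 3, 1, 4, 2, 1, 3, 2, 1, 4, 1, 1, 3, 1, 4, 1], [0, 2, 0, 2,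 1, 4, 4, 0, 2, 3, 0, 0, 0, 3, 3, 1, 4, 0, 0, 0, 0, 2, 1, 4, 4, 2, 1, 1, 1], [3, 3, 2, 0, 4, 1, 1, 2, 4, 2, 1, 1, 1, 3, 3, 2, 3, 3, 2, 1, 3, 3, 0, 0, 0, 3, 1, 1, 2, 1, 3, 0, 4, 2, 1, 1, 1, 3, 0, 3, 1], [2, 1, 3, 0, 0, 3, 1, 2, 0, 0, 0, 4, 0, 2, 0, 0, 0, 0, 0, 0, 0, 0, 2, 1, 4, 4, 2, 1, 1, 1, 3, 1, 4, 2, 1, 3, 2, 1, 4, 1, 1, 3, 1, 4, 1], [2, 1, 3, 0, 0, 3, 1, 2, 0, 0, 0, 4, 0, 2, 0, 0, 0, 0, 0, 4, 1, 4, 0, 0, 0, 3, 2, 1, 4, 0, 0, 3, 3, 1, 1, 3, 0, 0, 3, 1, 4, 1, 2, 0, 4], [3, 3, 2, 0, 4, 1, 1, 2, 4, 1, 4, 2, 0, 0, 0, 3, 1, 3, 0, 3, 3, 1, 4, 1, 1, 1, 3, 0, 3, 3, 0, 0, 4, 1, 4, 0, 0, 0, 3, 2, 1, 4, 0]]),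
   (0, 13, [], [52005, 5279], [[], [3, 3, 2, 0, 4, 1, 1, 2, 4, 2, 1, 1, 1, 3, 3, 2, 0, 0, 0, 3, 3, 1, 2, 1, 1, 1, 3, 0, 4, 0, 0, 3, 0, 4, 2, 0, 3, 2, 0, 4], [2, 1, 3, 0, 0, 3, 1, 2, 0, 0, 0, 4, 0, 2, 0, 0, 0, 0, 0, 2, 0, 0, 4, 0, 4, 1, 3, 1, 3, 3, 2, 0, 3, 0, 4, 0, 0, 3, 0, 4, 2, 0, 3, 0, 3, 0, 4, 1, 1, 4, 0, 0, 4, 4], [2, 1, 3, 0, 0, 3, 1, 2, 0, 0, 0, 4, 0, 2, 0, 0, 0, 0, 0, 0, 0, 0, 2, 1, 4, 4, 2, 1, 1, 1, 2, 1, 4, 0, 4, 2, 1, 4, 4, 1, 4, 0, 3, 1, 1, 3, 3, 1, 1, 3, 0, 0, 3, 1, 4, 1, 2, 0, 4], [0, 2, 0, 2, 1, 4, 4, 0, 2, 0, 0, 2, 1, 4, 4, 2, 1, 1, 2, 0, 3, 1, 1, 4, 0, 3, 1, 4, 2, 4, 1, 3, 1, 4, 2, 0, 0, 4, 4, 2, 0, 4, 0, 3, 0, 3, 3, 1, 1, 3, 0, 0,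 3, 1, 4, 1, 2, 0, 4], [3, 3, 1, 4, 1, 1, 1, 3, 0, 3, 3, 0, 4, 1, 4, 1, 1, 3, 3, 1, 3, 0, 4, 1, 4, 1, 1, 2, 0, 3, 0, 4, 1, 1, 4, 0, 0, 4, 4], [2, 0, 3, 0, 0, 0, 4, 2, 3, 3, 0, 2, 1, 3, 2, 1, 3, 2, 1, 2, 1, 4, 4, 0, 4, 4, 1, 1, 4, 2, 3, 1, 4, 2, 1, 3, 2, 1, 4, 1, 1, 3, 1, 4, 1, 3, 1, 2, 0, 3, 0, 4, 1, 1, 4, 0, 0, 4, 4], [2, 0, 3, 0, 0, 0, 4, 2, 3, 3, 0, 2, 1, 3, 2, 1, 3, 2, 0, 0, 3, 3, 1, 2, 1, 1, 1, 1, 3, 1, 3, 1, 3, 3, 0, 3, 1, 1, 1, 3, 2, 0, 3, 3, 1, 1, 3, 0, 0, 3, 1, 4, 1, 2, 0, 4], [2, 0, 0, 3, 2, 4, 2, 1, 3, 0, 3, 2, 4, 1, 4, 2, 0, 0, 0, 3, 1, 3, 0, 3, 2, 0, 0, 0, 0, 3, 0, 4, 1, 1, 4, 2, 4, 1, 3, 1, 4, 2, 0, 0, 4, 4, 2, 0, 4, 0, 3, 0, 3, 3, 1, 1,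 3, 0, 0, 3, 1, 4, 1, 2, 0, 4]]),
   (0, 2, [52005, 5279], [], [[]]),
   (1, 31554, [], [], []),
   (0, 3, [5279], [31554], [[], [4, 1, 4, 1, 4, 1, 3, 1, 2, 0, 4, 0, 4, 4, 1, 4, 4, 2, 0, 0, 0], [0, 2, 0, 2, 1, 4, 4, 0, 2, 0, 0, 2, 1, 4, 4, 2, 1, 1, 3, 2, 0, 0, 3, 3, 1, 3, 3, 0, 2, 3, 0, 3, 1, 4, 1, 3, 1, 4, 0, 3, 2, 0, 3, 1, 3, 1, 2, 0, 3, 0, 4, 1, 1, 4, 0, 0, 4, 4], [0, 2, 0, 2, 1, 4, 4, 0, 2, 3, 3, 0, 2, 1, 3, 2, 1, 3, 2, 1, 2, 0, 0, 4, 0, 4, 1, 3, 1, 3, 3, 2, 1, 3, 0, 4, 2, 1, 1, 1, 3, 0, 3, 1]]),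
   (0, 4, [663645, 5279], [], [[]]),
   (1, 10558, [], [], []),
   (0, 1, [5279, 10558], [], [[]]),
   (0, 5, [10558, 45159], [], [[]]),
   (0, 7, [5279, 90318], [], [[]]),
   (0, 8, [10558, 140167], [], [[]]),
   (0, 9, [140167, 52005], [], [[]]),
   (0, 10, [5279, 18147], [], [[]]),
   (0, 11, [10558], [], [[]]),
   (0, 12, [5279], [], [[]]),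
   (0, 14, [31554], [], [[]]),
   (0, 15, [52005], [], [[]]),
   (0, 16, [69395], [], [[]]),
   (0, 17, [133817], [], [[]]),
   (0, 18, [262637], [], [[]]),
   (0, 19, [525274], [], [[]]),
   (0, 20, [1050548], [], [[]]),
   (0, 21, [2101096], [], [[]]),
   (0, 22, [4196943], [], [[]]),
   (0, 23, [], [], [[]])]

theorem r07S2_ok : gProgOK [52005, 5279] 1 r07S2 = true := by decide +kernel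

def r07S4 : List (ℕ × ℕ × List ℕ × List ℕ × List (List ℕ)) :=
  [(0, 6, [], [15777, 5279], [[], [2, 0, 3, 2, 3, 1, 3, 1, 4, 4, 1, 1, 4, 1, 3, 1, 3, 1, 4, 0, 3, 0, 4, 1, 4, 1, 3, 3, 2, 1, 1, 4, 2, 1, 3, 0, 3, 1, 4, 1, 3, 1, 4, 0, 3, 2, 0, 3, 1, 3, 3, 1, 1, 3, 0, 0, 3, 1, 4, 1, 2, 0, 4], [4, 2, 1, 1, 4, 1, 1, 2, 4, 1, 2, 0, 3, 0, 4, 1, 1, 4, 0, 0, 3, 1, 2, 0, 4, 0, 4, 4, 1, 4, 4, 2, 0, 0, 0, 3, 1, 2, 0, 3, 0, 4, 1, 1, 4, 0, 0, 4, 4], [2, 0, 3, 1, 4, 0, 2, 4, 4, 0, 0, 3, 0, 4, 0, 0, 0, 0, 0, 3, 3, 1, 2, 1, 1, 1, 1, 1, 3, 0, 4, 2, 1, 1, 1, 3, 0, 3, 1], [4, 2, 1, 1, 4, 1, 1, 2, 3, 2, 0, 3, 3, 0, 4, 0, 0, 4, 2, 0, 0, 0, 2, 1, 4, 4, 2, 1, 1, 1, 3, 0, 3, 1,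 4, 1, 3, 1, 4, 0, 3, 2, 0, 3, 1], [4, 2, 1, 1, 4, 1, 1, 2, 4, 1, 2, 0, 3, 0, 4, 1, 1, 4, 0, 0, 3, 1, 2, 0, 4, 0, 4, 4, 1, 4, 4, 2, 0, 0, 0], [3, 0, 3, 0, 3, 0, 3, 2, 0, 4, 1, 3, 0, 0, 4, 1, 2, 3, 0, 3, 1, 4, 1, 3, 1, 4, 0, 3, 2, 0, 3, 1, 3, 1, 2, 0, 3, 0, 4, 1, 1, 4, 0, 0, 4, 4], [2, 0, 3, 1, 4, 0, 2, 4, 4, 0, 0, 3, 0, 4, 0, 0, 0, 0, 0, 3, 3, 1, 2, 1, 1, 1, 1, 1, 3, 0, 4, 2, 1, 1, 1, 3, 0, 3, 1, 3, 3, 1, 1, 3, 0, 0, 3, 1, 4, 1, 2, 0, 4], [4, 1, 4, 1, 4, 1, 2, 1, 3, 3, 2, 0, 3, 0, 3, 0, 4, 1, 2, 1, 3, 3, 1, 1, 3, 0, 0, 3, 1, 4, 1, 2, 0, 4], [3, 1, 2, 0, 3, 0, 4, 1, 1, 4, 0, 0, 4, 4], [3, 0, 3, 0, 3, 0, 0, 3, 2, 0, 0, 3, 3, 2, 4, 1, 4, 2, 1, 3, 0, 4,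 0, 3, 0, 4, 1, 4], [3, 3, 3, 0, 3, 0, 3, 0, 2, 0, 0, 4, 1, 3, 2, 0, 0, 0, 0, 4, 4, 1, 4, 0, 0, 0, 3, 2, 1, 4, 0, 3, 1, 2, 0, 3, 0, 4, 1, 1, 4, 0, 0, 4, 4]]),
   (0, 1, [5279], [15777], [[], [4, 4, 0, 3, 1, 3, 3, 1, 3, 0, 0, 0, 3, 2, 0, 0, 3, 3, 2, 1, 3, 2, 0, 0, 3, 3, 1, 3, 3, 0, 2, 0, 4, 1, 4, 0, 0, 0, 3, 2, 1, 4, 0, 3, 1, 2, 0, 3, 0, 4, 1, 1, 4, 0, 0, 4, 4], [2, 0, 3, 0, 0, 0, 4, 2, 4, 1, 4, 2, 0, 0, 0, 3, 1, 3, 0, 0, 0, 0, 3, 3, 1, 2, 1, 1, 1, 1, 2, 1, 3, 3, 2, 0, 3, 0, 3, 0, 4, 1, 2, 1, 3, 1, 2, 0, 3, 0, 4, 1, 1, 4, 0, 0, 4, 4], [3, 3, 2, 0, 4, 1, 1, 2, 4, 4, 0, 0, 3, 0, 4, 0, 0, 4, 1, 4, 1, 3, 3, 2, 1, 1, 4, 2, 1]]),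
   (0, 2, [5279], [15777], [[], [3, 0, 3, 0, 3, 0, 0, 3, 2, 0, 0, 3, 3, 2, 1, 4, 1, 3, 1, 4, 2, 0, 0, 4, 4, 2, 0, 4, 0, 3, 0, 3, 3, 1, 1, 3, 0, 0, 3, 1, 4, 1, 2, 0, 4], [0, 3, 1, 3, 3, 1, 3, 0, 0, 0, 3, 2, 0, 0, 3, 3, 2, 4, 1, 4, 0, 0, 0, 3, 2, 1, 4, 0, 3, 1, 2, 0, 3, 0, 4, 1, 1, 4, 0, 0, 4, 4]]),
   (0, 3, [5279], [15777], [[], [4, 1, 4, 1, 4, 1, 3, 1, 2, 0, 4, 0, 4, 4, 1, 4, 4, 2, 0, 0, 0]]),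
   (0, 4, [5279], [15777], [[]]),
   (0, 5, [2162811, 15777], [], [[]]),
   (0, 7, [5279, 262637], [], [[]]),
   (0, 8, [262637, 15777], [], [[]]),
   (0, 9, [525274, 18147], [], [[]]),
   (0, 10, [5279, 18147], [], [[]]),
   (0, 11, [10558, 36294], [], [[]]),
   (0, 12, [5279], [], [[]]),
   (0, 13, [15777], [], [[]]),
   (0, 14, [18147], [], [[]]),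
   (0, 15, [36294], [], [[]]),
   (0, 16, [69395], [], [[]]),
   (0, 17, [133817], [], [[]]),
   (0, 18, [262637], [], [[]]),
   (0, 19, [525274], [], [[]]),
   (0, 20, [1050548], [], [[]]),
   (0, 21, [2101096], [], [[]]),
   (0, 22, [4196943], [], [[]]),
   (0, 23, [], [], [[]])]

theorem r07S4_ok : gProgOK [15777, 5279] 1 r07S4 = true := by decide +kernel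

end Cfsg.Agent.Helper3
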