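import Cfsg.Agent.Helper3.Rank.Basic

/-!
Order certificates for the rank computation `r39` (machine generated).
-/

set_option autoImplicit false

namespace Cfsg.Agent.Helper3

open Cfsg

def r39K : List (ℕ × ℕ × List ℕ × List ℕ × List (List ℕ)) :=
  [(0, 5, [], [340831], [[], [3, 3, 0, 2, 0, 0, 3, 3, 1, 2, 1, 1, 2, 1, 1, 4, 1, 4, 1, 3, 0, 2, 3, 3, 1, 4, 1, 1, 1, 3, 0, 3, 3, 0, 3, 1, 3, 1, 3, 3, 0, 3, 1, 1, 1, 3, 2, 0, 3, 3, 1, 1, 3, 0, 0, 3, 1, 4, 1, 2, 0, 4], [4, 4, 2, 0, 4, 1, 4, 1, 1, 2, 4, 2, 0, 4, 1, 3, 3, 1, 2, 4, 1, 4, 1, 3, 3, 2, 1, 1, 4, 2, 1, 2, 1, 3, 3, 2, 0, 3, 0, 3, 0, 4, 1, 2, 1, 3, 3, 1, 1, 3, 0, 0, 3, 1, 4, 1, 2, 0, 4], [4, 0, 2, 0, 3, 0, 3, 0, 3, 0, 2, 0, 0, 0, 0, 3, 0, 4, 0, 2,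 4, 1, 4, 1, 3, 3, 2, 1, 1, 4, 2, 1, 3, 1, 4, 2, 1, 3, 2, 1, 4, 1, 1, 3, 1, 4, 1, 3, 3, 1, 1, 3, 0, 0, 3, 1, 4, 1, 2, 0, 4], [4, 4, 2, 1, 4, 0, 3, 2, 3, 2, 0, 3, 3, 0, 4, 0, 0, 4, 2, 3, 3, 1, 4, 1, 1, 1, 3, 0, 3, 3, 0, 0, 4, 1, 4, 0, 0, 0, 3, 2, 1, 4, 0], [4, 4, 0, 2, 0, 2, 1, 4, 4, 0, 0, 0, 0, 0, 3, 0, 4, 0, 2, 3, 3, 2, 1, 3, 3, 0, 0, 0, 3, 1, 1, 2], [3, 3, 0, 2, 4, 2, 1, 4, 0, 3, 2, 0, 4, 0, 0, 0, 3, 3, 1, 2, 1, 1, 1, 1, 4, 1, 4, 1, 1, 3, 3, 1, 3, 0, 4, 1, 4, 1, 3, 1, 1, 3, 0, 0, 3, 1, 4, 1, 2, 0, 4], [2, 0, 4, 1, 1, 2, 3, 3, 0, 2, 1, 3, 2, 1, 3, 2, 1, 3, 2, 0, 0, 0, 0, 3, 0, 4, 1, 1, 4, 2, 3, 1, 2, 0, 4, 0, 4, 4, 1, 4, 4, 2, 0, 0, 0, 3, 1, 2, 0, 3, 0, 4, 1, 1, 4, 0, 0, 4, 4], [4, 4, 0, 2, 0, 2,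 1, 4, 0, 2, 4, 1, 4, 2, 0, 0, 0, 3, 1, 3, 0, 3, 3, 2, 1, 3, 3, 0, 0, 0, 3, 1, 1, 2, 3, 1, 2, 0, 4, 0, 4, 4, 1, 4, 4, 2, 0, 0, 0], [3, 0, 2, 0, 3, 2, 0, 0, 3, 3, 0, 4, 4, 0, 3, 1, 3, 2, 0, 0, 0, 2, 1, 4, 4, 2, 1, 1, 4, 1, 4, 2, 1, 3, 0, 4, 0, 3, 0, 4, 1, 4], [3, 1, 4, 1, 4, 1, 2, 0, 3, 1, 1, 4, 0, 3, 1, 4, 1, 4, 0, 4, 2, 1, 4, 4, 1, 4, 0, 3, 1, 1, 3, 3, 1, 1, 3, 0, 0, 3, 1, 4, 1, 2, 0, 4], [3, 3, 1, 3, 1, 4, 4, 1, 1, 4, 1, 3, 1, 3, 1, 4, 0, 3, 0, 4, 1, 4, 0, 0, 0, 3, 2, 1, 4, 0, 0, 3, 1, 2, 0, 4, 0, 4, 4, 1, 4, 4, 2, 0, 0, 0, 3, 3, 1, 1, 3, 0, 0, 3, 1, 4, 1, 2, 0, 4]]),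
   (0, 1, [340831], [], [[], [4, 4, 0, 3, 1, 3, 3, 1, 3, 0, 0, 0, 3, 2, 0, 0, 3, 3, 2, 1, 1, 3, 0, 4, 2, 1, 1, 1, 3, 0, 3, 1, 3, 1, 2, 0, 3, 0, 4, 1, 1, 4, 0, 0, 4, 4], [2, 0, 3, 2, 4, 2, 1, 4, 0, 3, 2, 3, 3, 0, 2, 1, 3, 2, 1, 3, 2, 1, 3, 3, 2, 1, 3, 3, 0, 0, 0, 3, 1, 1, 2, 0, 0, 4, 0, 3, 3, 2, 0, 0, 3, 1, 1, 3, 0, 0], [3, 3, 3, 2, 1, 1, 4, 1, 1, 2, 1, 3, 3, 1, 4, 0, 3, 0, 0, 0, 0, 0, 4, 1, 4, 0, 0, 0, 3, 2, 1, 4, 0, 3, 3, 1, 1, 3, 0, 0, 3, 1, 4, 1, 2, 0, 4], [4, 2, 0, 4, 1, 1, 2, 3, 2, 0, 0, 0, 0, 3, 0, 4, 1, 1, 4, 2, 1, 3, 0, 4, 2, 1, 1, 1, 3, 0, 3, 1, 3, 3, 1, 1, 3, 0, 0, 3, 1, 4, 1, 2, 0, 4], [3, 0, 2, 0, 2, 0, 0, 0, 4, 2, 1, 4, 2, 1, 4, 0, 3, 2, 0, 4, 2, 0, 3, 1, 1, 4, 0, 3, 1, 4, 2, 0, 3, 0,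 4, 0, 0, 3, 0, 4, 2, 0, 3, 2, 0, 3, 1, 1, 3, 0, 0, 3, 1, 4, 1, 2, 0, 4], [4, 0, 2, 0, 2, 1, 4, 4, 0, 0, 0, 0, 0, 3, 0, 4, 0, 2, 3, 2, 0, 4, 1, 3, 0, 0, 4, 1, 2, 3, 1, 3, 1, 3, 3, 0, 3, 1, 1, 1, 3, 2, 0], [0, 2, 0, 2, 1, 4, 0, 0, 4, 4, 0, 3, 1, 3, 2, 4, 1, 4, 0, 0, 0, 3, 2, 1, 4, 0, 0, 0, 0, 4, 0, 3, 3, 2, 0, 0, 3, 1, 1, 3, 0, 0, 3, 1, 2, 0, 3, 0, 4, 1, 1, 4, 0, 0, 4, 4], [4, 4, 0, 2, 0, 4, 1, 4, 2, 0, 0, 0, 3, 1, 3, 0, 2, 0, 0, 4, 1, 3, 2, 0, 0, 0, 0, 4, 4, 1, 4, 0, 0, 0, 3, 2, 1, 4, 0, 3, 3, 1, 1, 3, 0, 0, 3, 1, 4, 1, 2, 0, 4], [3, 3, 0, 2, 0, 0, 3, 3, 1, 2, 1, 1, 4, 2, 1, 1, 1, 3, 3, 2, 1, 1, 1, 1, 4, 1, 3, 0, 4, 4, 0, 3, 1, 4, 2, 1, 3, 2, 1, 4, 1, 1, 3, 1, 4, 1, 3, 3, 1, 1, 3, 0, 0, 3, 1, 4, 1,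 2, 0, 4], [3, 2, 0, 4, 1, 1, 2, 4, 1, 3, 1, 3, 1, 4, 0, 3, 0, 2, 1, 4, 4, 0, 4, 4, 1, 1, 4, 2, 0, 4, 1, 4, 0, 0, 0, 3, 2, 1, 4, 0]]),
   (0, 2, [340831], [], [[], [3, 0, 3, 0, 3, 0, 4, 1, 3, 1, 3, 1, 4, 0, 3, 0, 2, 1, 4, 4, 0, 4, 4, 1, 1, 4, 2, 3, 1, 4, 2, 1, 3, 2, 1, 4, 1, 1, 3, 1, 4, 1, 3, 3, 1, 1, 3, 0, 0, 3, 1, 4, 1, 2, 0, 4], [0, 3, 1, 3, 3, 1, 3, 0, 0, 0, 0, 0, 4, 0, 2, 0, 0, 0, 0, 0, 4, 1, 4, 1, 3, 3, 2, 1, 1, 4, 2, 1, 3, 0, 3, 1, 4, 1, 3, 1, 4, 0, 3, 2, 0, 3, 1], [3, 2, 1, 1, 4, 1, 1, 1, 3, 1, 3, 1, 4, 4, 1, 2, 4, 1, 4, 0, 0, 0, 3, 2, 1, 4, 0, 0, 4, 1, 4, 1, 1, 3, 3, 1, 3, 0, 4, 1, 4, 1, 1, 2, 0, 3, 0, 4, 1, 1, 4, 0, 0, 4, 4], [2, 0, 0, 0, 4, 2, 3, 2, 0, 3, 3, 0, 4, 0, 0, 4, 1, 4, 4, 0, 4,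 4, 1, 1, 4, 2, 0, 4, 1, 4, 0, 0, 0, 3, 2, 1, 4, 0], [3, 1, 3, 1, 4, 4, 1, 1, 1, 3, 0, 4, 4, 1, 1, 1, 4, 0, 0, 4, 0, 2, 1, 3, 2, 0, 0, 3, 2, 3, 0, 4, 2, 1, 1, 1, 3, 0, 3, 1], [4, 2, 1, 4, 0, 3, 0, 4, 0, 4, 0, 0, 3, 0, 0, 4, 2, 0, 3, 0, 4, 0, 0, 3, 0, 4, 2, 0, 3, 2, 0, 4], [2, 1, 3, 0, 0, 4, 4, 0, 3, 1, 3, 2, 0, 3, 0, 4, 1, 1, 4, 0, 4, 2, 0, 4, 2, 3, 1, 3, 1, 3, 3, 0, 3, 1, 1, 1, 3, 2, 0, 3, 3, 1, 1, 3, 0, 0, 3, 1, 4, 1, 2, 0, 4], [2, 0, 4, 1, 4, 1, 1, 2, 4, 1, 4, 2, 0, 0, 0, 3, 1, 3, 0, 0, 0, 0, 3, 3, 1, 2, 1, 1, 1, 1, 2, 1, 4, 0, 4, 2, 1, 4, 4, 1, 4, 0, 3, 1, 1, 3, 3, 1, 1, 3, 0, 0, 3, 1, 4, 1, 2, 0, 4], [2, 0, 4, 1, 1, 2, 4, 1, 3, 1, 3, 1, 4, 0, 3, 0, 3, 2, 0, 4, 1, 3, 0, 0, 4, 1, 2, 1, 3, 0, 4,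 2, 1, 1, 1, 3, 0, 3, 1, 3, 3, 1, 1, 3, 0, 0, 3, 1, 4, 1, 2, 0, 4]]),
   (1, 689317, [], [], []),
   (1, 3294342, [], [], []),
   (0, 7, [689317, 3294342], [], [[], [3, 3, 1, 4, 1, 1, 1, 3, 0, 3, 3, 0], [0, 0, 0, 4, 0, 2, 0, 0, 0, 0, 0, 0, 0, 0, 3, 3, 1, 2, 1, 1, 1, 3, 0, 4, 0, 0, 3, 0, 4, 2, 0, 3, 0, 3, 0, 4, 1, 1, 4, 0, 0, 4, 4]]),
   (0, 10, [689317, 3294342], [], [[], [0, 0, 0, 4, 0, 2, 0, 0, 0, 0, 0, 2, 1, 4, 4, 0, 4, 4, 1, 1, 4, 2, 4, 4, 1, 4, 4, 2, 1, 3, 3, 0, 0, 3, 1, 4, 1, 3, 3, 1, 1, 3, 0, 0, 3, 1, 4, 1, 2, 0, 4]]),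
   (0, 8, [6292775, 340831], [], [[]]),
   (0, 3, [5279, 198058], [], [[]]),
   (0, 4, [5279, 10558], [], [[]]),
   (0, 6, [262637, 18147], [], [[]]),
   (0, 9, [18147, 340831], [], [[]]),
   (0, 11, [10558, 36294], [], [[]]),
   (0, 12, [5279], [], [[]]),
   (0, 13, [10558], [], [[]]),
   (0, 14, [18147], [], [[]]),
   (0, 15, [36294], [], [[]]),
   (0, 16, [69395], [], [[]]),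
   (0, 17, [133817], [], [[]]),
   (0, 18, [340831], [], [[]]),
   (0, 19, [689317], [], [[]]),
   (0, 20, [1050548], [], [[]]),
   (0, 21, [3294342], [], [[]]),
   (0, 22, [4196943], [], [[]]),
   (0, 23, [], [], [[]])]

theorem r39K_ok : gProgOK [340831] 1 r39K = true := by decide +kernel

def r39S4 : List (ℕ × ℕ × List ℕ × List ℕ × List (List ℕ)) :=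
  [(0, 2, [340831], [1727659], [[], [2, 0, 3, 1, 4, 0, 2, 3, 2, 0, 3, 3, 0, 4, 0, 0, 4, 2, 0, 0, 4, 0, 2, 1, 3, 2, 0, 0, 3, 2, 0, 0, 4, 1, 4, 2, 1, 3, 0, 4, 0, 3, 0, 4, 1, 4], [0, 2, 0, 2, 0, 0, 0, 4, 2, 4, 2, 1, 1, 1, 3, 3, 2, 4, 4, 1, 4, 4, 2, 1, 3, 3, 0, 0, 3, 1, 4, 1, 3, 3, 1, 1, 3, 0, 0, 3, 1, 4, 1, 2, 0, 4], [2, 0, 3, 2, 4, 2, 0, 4, 1, 3, 3, 1, 2, 1, 3, 3, 1, 4, 0, 3, 0, 0, 0, 0, 3, 1, 2, 0, 4, 0, 4, 4, 1, 4, 4, 2, 0, 0, 0], [0, 2, 0, 2, 1, 1, 4, 1, 4, 2, 4, 1, 4, 2, 0, 0, 0, 3, 1, 3, 0, 3, 2, 0, 0, 3, 3, 1, 3, 3, 0, 2, 0, 0, 4, 0, 3, 3, 2, 0, 0, 3, 1, 1, 3, 0, 0], [2, 0, 3, 0, 4, 0, 4, 2, 4, 1, 3, 1, 3, 1, 4, 0, 3, 0, 4, 1, 4, 1, 3, 3, 2, 1, 1, 4, 2, 1, 3, 1, 4, 2, 1, 3, 2, 1, 4, 1, 1, 3,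 1, 4, 1], [2, 0, 3, 2, 4, 2, 1, 3, 0, 3, 2, 3, 3, 0, 2, 1, 3, 2, 1, 3, 2, 0, 0, 2, 1, 4, 4, 2, 1, 1, 1, 2, 1, 4, 0, 4, 2, 1, 4, 4, 1, 4, 0, 3, 1, 1, 3, 1, 2, 0, 3, 0, 4, 1, 1, 4, 0, 0, 4, 4], [2, 0, 4, 1, 1, 2, 4, 4, 0, 0, 3, 0, 4, 0, 0, 2, 1, 4, 4, 0, 4, 4, 1, 1, 4, 2, 0, 0, 4, 0, 3, 3, 2, 0, 0, 3, 1, 1, 3, 0, 0, 3, 3, 1, 1, 3, 0, 0, 3, 1, 4, 1, 2, 0, 4]]),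
   (0, 1, [340831, 1727659], [], [[], [2, 0, 3, 0, 0, 0, 4, 2, 1, 3, 0, 4, 4, 1, 1, 1, 4, 0, 4, 1, 4, 2, 1, 3, 0, 4, 0, 3, 0, 4, 1, 4], [0, 2, 0, 2, 1, 4, 4, 0, 2, 0, 3, 2, 0, 0, 3, 3, 2, 1, 1, 3, 3, 1, 4, 0, 3, 0, 0, 0, 0, 2, 1, 4, 0, 4, 2, 1, 4, 4, 1, 4, 0, 3, 1, 1, 3, 1, 2, 0, 3, 0, 4, 1, 1, 4, 0, 0, 4, 4]]),
   (0, 3, [340831, 1727659], [], [[], [4, 1, 4, 2, 0, 0, 0, 3, 1, 3, 0, 0, 0, 0, 2, 1, 4, 4, 2, 1, 1, 1, 2, 1, 3, 3, 2, 0, 3, 0, 3, 0, 4, 1, 2, 1, 3, 3, 1, 1, 3, 0, 0, 3, 1, 4, 1, 2, 0, 4]]),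
   (0, 12, [340831, 1727659], [], [[]]),
   (0, 4, [5279, 340831], [], [[]]),
   (1, 689317, [], [], []),
   (0, 15, [689317], [1727659], [[]]),
   (0, 5, [45159, 1727659], [], [[]]),
   (0, 6, [45159, 21116], [], [[]]),
   (0, 7, [5279, 99029], [], [[]]),
   (0, 8, [39257, 340831], [], [[]]),
   (0, 9, [21116, 340831], [], [[]]),
   (0, 10, [5279], [], [[]]),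
   (0, 11, [36294], [], [[]]),
   (0, 13, [10558], [], [[]]),
   (0, 14, [18147], [], [[]]),
   (0, 16, [69395], [], [[]]),
   (0, 17, [133817], [], [[]]),
   (0, 18, [340831], [], [[]]),
   (0, 19, [689317], [], [[]]),
   (0, 20, [1727659], [], [[]]),
   (0, 21, [2101096], [], [[]]),
   (0, 22, [4196943], [], [[]]),
   (0, 23, [], [], [[]])]

theorem r39S4_ok : gProgOK [1727659, 340831] 1 r39S4 = true := by decide +kernel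

def r39S8 : List (ℕ × ℕ × List ℕ × List ℕ × List (List ℕ)) :=
  [(0, 1, [340831], [28637], [[], [0, 2, 0, 2, 1, 4, 4, 0, 2, 3, 0, 0, 0, 3, 3, 1, 4, 0, 0, 0, 0, 2, 1, 4, 4, 2, 1, 1, 1, 4, 1, 3, 1, 4, 2, 0, 0, 4, 4, 2, 0, 4, 0, 3, 0, 3, 3, 1, 1, 3, 0, 0, 3, 1, 4, 1, 2, 0, 4], [3, 3, 0, 2, 0, 4, 4, 2, 0, 0, 0, 3, 2, 3, 3, 1, 4, 1, 1, 1, 3, 0, 3, 3, 0, 0, 4, 1, 4, 2, 1, 3, 0, 4, 0, 3, 0, 4, 1, 4], [3, 3, 0, 3, 0, 3, 0, 0, 3, 2, 0, 0, 3, 3, 2, 1, 3, 2, 0, 0, 3, 3, 1, 3, 3, 0, 2, 0, 4, 1, 4, 2, 1, 3, 0, 4, 0, 3, 0, 4, 1, 3, 1, 1, 3, 0, 0, 3, 1, 4, 1, 2, 0, 4]]),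
   (0, 12, [340831], [28637], [[], [3, 1, 3, 1, 4, 4, 1, 1, 4, 1, 3, 1, 3, 1, 4, 0, 3, 3, 3, 1, 4, 0, 3, 0, 0, 0, 0, 0, 4, 1, 4, 0, 0, 0, 3, 2, 1, 4, 0, 3, 3, 1, 1, 3, 0, 0, 3, 1, 4, 1, 2, 0, 4], [3, 2, 1, 1, 4, 1, 1, 1, 1, 4, 1, 4, 1, 3, 0, 2, 4, 1, 4, 1, 3, 3, 2, 1, 1, 4, 2, 1, 3, 1, 3, 1, 3, 3, 0, 3, 1, 1, 1, 3, 2, 0, 3, 1, 2, 0, 3, 0, 4, 1, 1, 4, 0, 0, 4, 4]]),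
   (0, 16, [340831], [28637], [[], [3, 0, 3, 0, 3, 0, 3, 2, 0, 4, 1, 3, 0, 0, 4, 1, 2, 3, 0, 3, 1, 4, 1, 3, 1, 4, 0, 3, 2, 0, 3, 1, 3, 3, 1, 1, 3, 0, 0, 3, 1, 4, 1, 2, 0, 4]]),
   (0, 18, [340831], [28637], [[]]),
   (0, 4, [1413139, 28637], [], [[]]),
   (1, 5279, [], [], []),
   (1, 69395, [], [], []),
   (0, 7, [5279], [340831, 69395], [[]]),
   (0, 2, [5279, 864389], [], [[]]),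
   (0, 3, [5279, 340831], [], [[]]),
   (0, 5, [4526126, 78514], [], [[]]),
   (0, 6, [262637, 21116], [], [[]]),
   (0, 8, [262637], [], [[]]),
   (0, 9, [340831, 69395], [], [[]]),
   (0, 10, [5279], [], [[]]),
   (0, 11, [69395], [], [[]]),
   (0, 13, [340831], [], [[]]),
   (0, 14, [28637], [], [[]]),
   (0, 15, [36294], [], [[]]),
   (0, 17, [133817], [], [[]]),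
   (0, 19, [525274], [], [[]]),
   (0, 20, [1050548], [], [[]]),
   (0, 21, [2101096], [], [[]]),
   (0, 22, [4196943], [], [[]]),
   (0, 23, [], [], [[]])]

theorem r39S8_ok : gProgOK [28637, 340831] 1 r39S8 = true := by decide +kernel

def r39S6 : List (ℕ × ℕ × List ℕ × List ℕ × List (List ℕ)) :=
  [(0, 2, [195645, 340831], [], [[], [0, 3, 0, 3, 0, 2, 1, 3, 1, 3, 1, 4, 4, 1, 2, 1, 1, 1, 1, 4, 1, 3, 0, 4, 4, 0, 3, 0, 3, 1, 4, 1, 3, 1, 4, 0, 3, 2, 0, 3, 1, 3, 1, 2, 0, 3, 0, 4, 1, 1, 4, 0, 0, 4, 4], [0, 3, 1, 3, 3, 1, 3, 0, 0, 0, 0, 0, 4, 0, 2, 0, 0, 0, 0, 0, 0, 0, 0, 2, 1, 4, 4, 2, 1, 1, 1], [3, 3, 1, 3, 1, 4, 4, 1, 1, 3, 3, 0, 2, 1, 3, 2, 1, 3, 2, 1, 2, 0, 0, 4, 1, 3, 2, 0, 0, 0, 0, 4, 1], [3, 2,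 0, 4, 1, 4, 1, 1, 2, 4, 4, 2, 0, 0, 0, 3, 0, 0, 4, 1, 3, 2, 0, 0, 0, 0, 4, 1, 4, 4, 1, 4, 4, 2, 1, 3, 3, 0, 0, 3, 1, 4, 1, 3, 1, 2, 0, 3, 0, 4, 1, 1, 4, 0, 0, 4, 4]]),
   (1, 8126628, [], [], []),
   (0, 5, [8126628, 195645], [], [[]]),
   (0, 18, [8126628, 340831], [], [[]]),
   (0, 23, [], [195645, 340831, 8126628], [[]]),
   (0, 15, [10846245, 195645], [], [[]]),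
   (0, 16, [10846245, 340831], [], [[]]),
   (0, 21, [10846245], [], [[]]),
   (1, 31554, [], [], []),
   (0, 3, [195645, 340831], [31554], [[], [2, 1, 1, 4, 1, 1, 2, 3, 3, 0, 2, 1, 3, 2, 1, 3, 2, 0, 0, 2, 1, 4, 4, 2, 1, 1, 1, 1, 1, 1, 3, 3, 2, 0, 3, 3, 1, 3, 3, 0, 4, 1, 1, 4, 0, 0, 4, 4]]),
   (0, 1, [298027, 340831], [], [[]]),
   (0, 4, [2162811, 195645], [], [[]]),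
   (0, 6, [2162811], [], [[]]),
   (0, 7, [99029, 8126628], [], [[]]),
   (0, 8, [262637], [], [[]]),
   (0, 9, [99029], [], [[]]),
   (0, 10, [5279, 18147], [], [[]]),
   (0, 11, [36294], [], [[]]),
   (0, 12, [5279], [], [[]]),
   (0, 13, [340831], [], [[]]),
   (0, 14, [31554], [], [[]]),
   (0, 17, [195645], [], [[]]),
   (0, 19, [525274], [], [[]]),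
   (0, 20, [1050548], [], [[]]),
   (0, 22, [], [], [[]])]

theorem r39S6_ok : gProgOK [195645, 340831] 1 r39S6 = true := by decide +kernel

end Cfsg.Agent.Helper3
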